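import Cfsg.Agent.H399.Base
import Cfsg.Agent.H209.Five.BasicsOne
import Cfsg.Agent.S3225
set_option linter.all false

-- part: H595/Five/Tools
section
/-!
# General tools for the local analysis of S3568: conjugation of centralizers in Sylow subgroups
-/

set_option autoImplicit false
open Pointwise
namespace Cfsg.Agent.H595.Five
open Cfsg.Agent.H399
variable {G : Type*} [Group G]

/-- the centralizer of an element -/
abbrev Cn (a : G) : Subgroup G := Subgroup.centralizer {a}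

theorem mem_Cn {a x : G} : x ∈ Cn a ↔ x * a = a * x := by
  rw [Subgroup.mem_centralizer_singleton_iff]

theorem cj_Cn (g a : G) : cj g (Cn a) = Cn (g * a * g⁻¹) := by
  ext y
  rw [mem_cj, mem_Cn, mem_Cn]
  constructor
  · intro h
    have h2 := congrArg (fun t => g * t * g⁻¹) h
    simp only [mul_assoc, mul_inv_cancel, mul_one, mul_inv_cancel_left] at h2 ⊢
    exact h2
  · intro h
    have h2 := congrArg (fun t => g⁻¹ * t * g) h
    simp only [mul_assoc, inv_mul_cancel, mul_one, inv_mul_cancel_left] at h2 ⊢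
    exact h2

theorem cj_sylow {p : ℕ} [Fact p.Prime] [Finite G] (P R : Sylow p G) : ∃ g : G, cj g (R : Subgroup G) = P := by
  obtain ⟨g, hg⟩ := MulAction.exists_smul_eq G R P
  refine ⟨g, ?_⟩
  rw [← hg]
  rfl

theorem exists_cj_le {p : ℕ} [Fact p.Prime] [Finite G] (P : Sylow p G) {A : Subgroup G} (hA : IsPGroup p A) :
    ∃ g : G, cj g A ≤ (P : Subgroup G) := by
  obtain ⟨R, hR⟩ := hA.exists_le_sylow
  obtain ⟨g, hg⟩ := cj_sylow P R
  refine ⟨g, ?_⟩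
  rw [← hg, cj_le_cj]
  exact hR

theorem eq_of_le_of_card {A B : Subgroup G} [Finite G] (h : A ≤ B) (hc : Nat.card B ≤ Nat.card A) : A = B :=
  Subgroup.eq_of_le_of_card_ge h hc

theorem card_le_of_le [Finite G] {A B : Subgroup G} (h : A ≤ B) : Nat.card A ≤ Nat.card B :=
  Subgroup.card_le_of_le h

/-- relative Sylow conjugation: two `p`-subgroups of `C`, one of them of maximal order among the `p`-subgroups containing it -/
theorem exists_cj_le_of_max {p : ℕ} [Fact p.Prime] [Finite G] {C A B : Subgroup G} (hA : A ≤ C) (hB : B ≤ C)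
    (hAp : IsPGroup p A) (hBp : IsPGroup p B)
    (hmax : ∀ S : Subgroup G, S ≤ C → IsPGroup p S → B ≤ S → Nat.card S ≤ Nat.card B) :
    ∃ c ∈ C, cj c A ≤ B := by
  have hA' : IsPGroup p (A.subgroupOf C) := hAp.comap_of_injective _ C.subtype_injective
  have hB' : IsPGroup p (B.subgroupOf C) := hBp.comap_of_injective _ C.subtype_injective
  obtain ⟨S₁, hS₁⟩ := hA'.exists_le_sylow
  obtain ⟨S₂, hS₂⟩ := hB'.exists_le_sylow
  have h1 : (S₂ : Subgroup C).map C.subtype = B := by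
    symm
    have h2 : B ≤ (S₂ : Subgroup C).map C.subtype := by
      intro b hb
      exact ⟨⟨b, hB hb⟩, hS₂ (by rw [Subgroup.mem_subgroupOf]; exact hb), rfl⟩
    exact eq_of_le_of_card h2 (hmax _ (Subgroup.map_subtype_le _) (S₂.isPGroup'.map _) h2)
  obtain ⟨c, hc⟩ := cj_sylow S₂ S₁
  refine ⟨c, c.2, ?_⟩
  intro y hy
  rw [mem_cj] at hy
  have hyC : y ∈ C := by
    have := C.mul_mem (C.mul_mem c.2 (hA hy)) (C.inv_mem c.2)
    simpa [mul_assoc] using this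
  rw [← h1]
  refine ⟨⟨y, hyC⟩, ?_, rfl⟩
  have h3 : (⟨y, hyC⟩ : C) ∈ cj c (S₁ : Subgroup C) := by
    rw [mem_cj]
    apply hS₁
    rw [Subgroup.mem_subgroupOf]
    exact hy
  rw [hc] at h3
  exact h3

/-- fully centralized conjugates -/
theorem exists_conj_cent_le {p : ℕ} [Fact p.Prime] [Finite G] (P : Sylow p G) {a b x : G} (hb : b ∈ P)
    (hx : x * a * x⁻¹ = b)
    (hmax : ∀ g : G, g * b * g⁻¹ ∈ P →
      Nat.card ↥((P : Subgroup G) ⊓ Cn (g * b * g⁻¹)) ≤ Nat.card ↥((P : Subgroup G) ⊓ Cn b))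
    {A : Subgroup G} (hA : IsPGroup p A) (hAC : A ≤ Cn a) :
    ∃ y : G, y * a * y⁻¹ = b ∧ cj y A ≤ (P : Subgroup G) ⊓ Cn b := by
  have h1 : cj x A ≤ Cn b := by
    rw [← hx, ← cj_Cn, cj_le_cj]
    exact hAC
  have h2 : IsPGroup p ↥((P : Subgroup G) ⊓ Cn b) := P.isPGroup'.to_le inf_le_left
  obtain ⟨c, hc, hc2⟩ := exists_cj_le_of_max h1 inf_le_right (isPGroup_cj x hA) h2 (by
    intro S hS hSp hPS
    obtain ⟨g, hg⟩ := exists_cj_le P hSp
    have hbS : b ∈ S := hPS ⟨hb, mem_Cn.2 rfl⟩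
    have h3 : g * b * g⁻¹ ∈ P := hg (conj_mem_cj.2 hbS)
    refine le_trans ?_ (hmax g h3)
    rw [← card_cj g S]
    apply card_le_of_le
    refine le_inf hg ?_
    rw [← cj_Cn, cj_le_cj]
    exact hS)
  refine ⟨c * x, ?_, ?_⟩
  · have h4 : c * b * c⁻¹ = b := by
      rw [mem_Cn.1 hc]
      group
    calc c * x * a * (c * x)⁻¹ = c * (x * a * x⁻¹) * c⁻¹ := by group
      _ = b := by rw [hx, h4]
  · rw [cj_mul]
    exact hc2

theorem exists_conj_cent_eq {p : ℕ} [Fact p.Prime] [Finite G] (P : Sylow p G) {a b x : G} (hb : b ∈ P)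
    (hx : x * a * x⁻¹ = b)
    (hmax : ∀ g : G, g * b * g⁻¹ ∈ P →
      Nat.card ↥((P : Subgroup G) ⊓ Cn (g * b * g⁻¹)) ≤ Nat.card ↥((P : Subgroup G) ⊓ Cn b))
    (hc : Nat.card ↥((P : Subgroup G) ⊓ Cn b) ≤ Nat.card ↥((P : Subgroup G) ⊓ Cn a)) :
    ∃ y : G, y * a * y⁻¹ = b ∧ cj y ((P : Subgroup G) ⊓ Cn a) = (P : Subgroup G) ⊓ Cn b := by
  obtain ⟨y, hy, hy2⟩ := exists_conj_cent_le P hb hx hmax (A := (P : Subgroup G) ⊓ Cn a)
    (P.isPGroup'.to_le inf_le_left) inf_le_right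
  refine ⟨y, hy, eq_of_le_of_card hy2 ?_⟩
  rw [card_cj]
  exact hc

theorem card_cent {P T : Subgroup G} (hTP : T ≤ P) (hPT : P ≤ Nm T) (a : G) :
    Nat.card ↥((P ⊓ Cn a) ⊔ T) * Nat.card ↥(T ⊓ Cn a) = Nat.card ↥(P ⊓ Cn a) * Nat.card T := by
  rw [← card_sup (H := P ⊓ Cn a) (N := T) (inf_le_left.trans hPT)]
  congr 2
  rw [inf_right_comm, inf_eq_right.2 hTP]

end Cfsg.Agent.H595.Five
end

-- part: H595/Five/SylowNorm
section
/-!
# A `p`-subgroup which is a Sylow subgroup of an overgroup of its normaliser is a Sylow subgroup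
-/

set_option autoImplicit false
open Pointwise
namespace Cfsg.Agent.H595.Five
open Cfsg.Agent.H399
variable {G : Type*} [Group G]

theorem exists_sylow_of_norm {p : ℕ} [Fact p.Prime] [Finite G] {P₀ N : Subgroup G} (hP₀ : IsPGroup p P₀) (hN : Nm P₀ ≤ N)
    (h : ∀ S : Subgroup G, S ≤ N → IsPGroup p S → P₀ ≤ S → Nat.card S ≤ Nat.card P₀) :
    ∃ P : Sylow p G, (P : Subgroup G) = P₀ := by
  obtain ⟨R, hR⟩ := hP₀.exists_le_sylow
  refine ⟨R, ?_⟩
  by_contra hne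
  have h1 : P₀.subgroupOf (R : Subgroup G) < ⊤ := by
    rw [lt_top_iff_ne_top]
    intro h2
    rw [Subgroup.subgroupOf_eq_top] at h2
    exact hne (le_antisymm h2 hR)
  have : Group.IsNilpotent ↥(R : Subgroup G) := R.isPGroup'.isNilpotent
  have h2 := Group.normalizerCondition_of_isNilpotent (G := ↥(R : Subgroup G)) _ h1
  obtain ⟨x, hx, hx2⟩ := SetLike.exists_of_lt h2
  have h3 : (x : G) ∈ Nm P₀ := by
    rw [Subgroup.mem_normalizer_iff] at hx ⊢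
    intro y
    constructor
    · intro hy
      have := (hx ⟨y, hR hy⟩).1 hy
      exact this
    · intro hy
      have hyR : y ∈ (R : Subgroup G) := by
        have := mul_mem (mul_mem (inv_mem x.2) (hR hy)) x.2
        simpa [mul_assoc] using this
      exact (hx ⟨y, hyR⟩).2 hy
  have h4 := h ((R : Subgroup G) ⊓ Nm P₀) (inf_le_right.trans hN) (R.isPGroup'.to_le inf_le_left)
    (le_inf hR (self_le_Nm P₀))
  have h5 := eq_of_le_of_card (le_inf hR (self_le_Nm P₀)) h4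
  apply hx2
  rw [Subgroup.mem_subgroupOf, h5]
  exact ⟨x.2, h3⟩

end Cfsg.Agent.H595.Five
end

-- part: H209/Five/BasicsTwo
section
/-!
# S3568, BASICS 2: involutions acting on the group of order 64
-/

set_option autoImplicit false

open Pointwise

namespace Cfsg.Agent.H209.Five

open Cfsg.Agent.H399

variable {G : Type*} [Group G]

namespace BT

/-! ### groups of order four -/

theorem inv_of_sq {g : G} (h : g * g = 1) : g⁻¹ = g := inv_eq_of_mul_eq_one_left h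

theorem four {A : Subgroup G} (hA : Nat.card A = 4) (h2 : ∀ x ∈ A, x * x = 1) {x y : G} (hx : x ∈ A) (hy : y ∈ A)
    (hx1 : x ≠ 1) (hy1 : y ≠ 1) (hxy : x ≠ y) : ∀ w ∈ A, w = 1 ∨ w = x ∨ w = y ∨ w = x * y := by
  classical
  intro w hw
  have hfin : Finite A := Nat.finite_of_card_ne_zero (by rw [hA]; norm_num)
  have : Fintype A := Fintype.ofFinite A
  let S : Finset A := {1, ⟨x, hx⟩, ⟨y, hy⟩, ⟨x * y, mul_mem hx hy⟩}
  have hxy1 : x * y ≠ 1 := by
    intro h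
    apply hxy
    rw [← inv_of_sq (h2 y hy)]
    exact eq_inv_of_mul_eq_one_left h
  have h3 : x ≠ x * y := by
    intro h
    exact hy1 (left_eq_mul.1 h)
  have h4 : y ≠ x * y := by
    intro h
    exact hx1 (right_eq_mul.1 h)
  have hS : S.card = 4 := by
    have e1 : (1 : A) ∉ ({⟨x, hx⟩, ⟨y, hy⟩, ⟨x * y, mul_mem hx hy⟩} : Finset A) := by
      simp only [Finset.mem_insert, Finset.mem_singleton, Subtype.ext_iff, OneMemClass.coe_one]
      rintro (h | h | h)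
      · exact hx1 h.symm
      · exact hy1 h.symm
      · exact hxy1 h.symm
    have e2 : (⟨x, hx⟩ : A) ∉ ({⟨y, hy⟩, ⟨x * y, mul_mem hx hy⟩} : Finset A) := by
      simp only [Finset.mem_insert, Finset.mem_singleton, Subtype.ext_iff]
      rintro (h | h)
      · exact hxy h
      · exact h3 h
    have e3 : (⟨y, hy⟩ : A) ∉ ({⟨x * y, mul_mem hx hy⟩} : Finset A) := by
      simp only [Finset.mem_singleton, Subtype.ext_iff]
      exact h4
    rw [Finset.card_insert_of_notMem e1, Finset.card_insert_of_notMem e2, Finset.card_insert_of_notMem e3,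
      Finset.card_singleton]
  have hU : S = Finset.univ := by
    apply Finset.eq_univ_of_card
    rw [hS, ← Nat.card_eq_fintype_card, hA]
  have h5 : (⟨w, hw⟩ : A) ∈ S := by rw [hU]; exact Finset.mem_univ _
  simp only [S, Finset.mem_insert, Finset.mem_singleton, Subtype.ext_iff, OneMemClass.coe_one] at h5
  exact h5

/-- two commuting involutions -/
theorem EA.inv {Q : Subgroup G} {n : ℕ} (h : EA Q n) {x : G} (hx : x ∈ Q) : x⁻¹ = x := inv_of_sq (h.sq x hx)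

section six

variable {Q₁ Q₂ : Subgroup G} {τ : G}

theorem _root_.Cfsg.Agent.H209.Five.Six.eaX (h : Six Q₁ Q₂ τ) : EA (Q₁ ⊓ Q₂) 4 :=
  ⟨h.pair.inf, fun x hx y hy => h.pair.ea₁.comm x hx.1 y hy.1, fun x hx => h.pair.ea₁.sq x hx.1⟩

theorem inf_le_sup' : Q₁ ⊓ Q₂ ≤ Q₁ ⊔ Q₂ := inf_le_left.trans le_sup_left

theorem _root_.Cfsg.Agent.H209.Five.Six.nX (h : Six Q₁ Q₂ τ) : τ ∈ Nm (Q₁ ⊓ Q₂) := by
  rw [mem_Nm, cj_inf, cj_of_mem_Nm h.n₁, cj_of_mem_Nm h.n₂]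

theorem conj_mem_of_Nm {x y : G} {X : Subgroup G} (h : x ∈ Nm X) (hy : y ∈ X) : x * y * x⁻¹ ∈ X :=
  (Subgroup.mem_normalizer_iff.1 h y).1 hy

/-- `τ²` is fixed point free as well -/
theorem _root_.Cfsg.Agent.H209.Five.Six.fpf' (h : Six Q₁ Q₂ τ) {t : G} (ht : t ∈ Q₁ ⊔ Q₂)
    (hc : τ * τ * t = t * (τ * τ)) : t = 1 := by
  apply h.fpf t ht
  have h3 := h.three
  have e : τ = (τ * τ) * (τ * τ) := by
    calc τ = τ ^ 3 * τ := by rw [h3, one_mul]
      _ = (τ * τ) * (τ * τ) := by simp only [pow_succ, pow_zero, one_mul, mul_assoc]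
  calc τ * t = (τ * τ) * (τ * τ) * t := by rw [← e]
    _ = (τ * τ) * ((τ * τ) * t) := by rw [mul_assoc]
    _ = (τ * τ * t) * (τ * τ) := by rw [hc, ← mul_assoc, hc]
    _ = t * ((τ * τ) * (τ * τ)) := by rw [hc]; simp only [mul_assoc]
    _ = t * τ := by rw [← e]

/-- `τ` is transitive on the involutions of `X` -/
theorem _root_.Cfsg.Agent.H209.Five.Six.transX (h : Six Q₁ Q₂ τ) {x y : G} (hx : x ∈ Q₁ ⊓ Q₂) (hx1 : x ≠ 1)
    (hy : y ∈ Q₁ ⊓ Q₂) (hy1 : y ≠ 1) : y = x ∨ y = τ * x * τ⁻¹ ∨ y = (τ * τ) * x * (τ * τ)⁻¹ := by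
  have hT : Q₁ ⊓ Q₂ ≤ Q₁ ⊔ Q₂ := inf_le_sup'
  have hx' := conj_mem_of_Nm h.nX hx
  have hx'' := conj_mem_of_Nm h.nX hx'
  have e1 : τ * (τ * x * τ⁻¹) * τ⁻¹ = (τ * τ) * x * (τ * τ)⁻¹ := by group
  rw [e1] at hx''
  have n1 : x ≠ τ * x * τ⁻¹ := by
    intro e
    apply hx1
    apply h.fpf x (hT hx)
    rw [eq_mul_inv_iff_mul_eq] at e
    exact e.symm
  have n2 : x ≠ (τ * τ) * x * (τ * τ)⁻¹ := by
    intro e
    apply hx1
    apply h.fpf' (hT hx)
    rw [eq_mul_inv_iff_mul_eq] at e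
    exact e.symm
  have n3 : (τ * τ) * x * (τ * τ)⁻¹ ≠ τ * x * τ⁻¹ := by
    intro e
    apply n1
    rw [← e1] at e
    have h4 : τ * x * τ⁻¹ = x := by
      have h5 := congrArg (fun w => τ⁻¹ * w * τ) e
      simpa [mul_assoc] using h5
    exact h4.symm
  have n4 : τ * x * τ⁻¹ ≠ 1 := by
    intro e
    apply hx1
    rw [mul_inv_eq_one] at e
    exact mul_eq_left.1 e
  have n5 : (τ * τ) * x * (τ * τ)⁻¹ ≠ 1 := by
    intro e
    apply hx1
    rw [mul_inv_eq_one] at e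
    exact mul_eq_left.1 e
  have key := four h.eaX.card h.eaX.sq hx hx' hx1 n4 n1
  have k1 := key y hy
  have k2 := key _ hx''
  rcases k2 with k2 | k2 | k2 | k2
  · exact absurd k2 n5
  · exact absurd k2.symm n2
  · exact absurd k2 n3
  · rcases k1 with k1 | k1 | k1 | k1
    · exact absurd k1 hy1
    · exact Or.inl k1
    · exact Or.inr (Or.inl k1)
    · exact Or.inr (Or.inr (by rw [k1, k2]))

end six

section swap

variable {Q₁ Q₂ : Subgroup G} {n m : ℕ} (h : QPair Q₁ Q₂ n m) {w : G} (w2 : w * w = 1)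

include w2

theorem conj_conj (x : G) : w * (w * x * w) * w = x := by
  calc w * (w * x * w) * w = (w * w) * x * (w * w) := by simp only [mul_assoc]
    _ = x := by rw [w2, one_mul, mul_one]

theorem conj_mul (x y : G) : w * (x * y) * w = (w * x * w) * (w * y * w) := by
  calc w * (x * y) * w = w * x * 1 * y * w := by simp only [mul_one, mul_assoc]
    _ = w * x * (w * w) * y * w := by rw [w2]
    _ = _ := by simp only [mul_assoc]

theorem comm_iff {x : G} : w * x = x * w ↔ w * x * w = x := by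
  constructor
  · intro e
    rw [e, mul_assoc, w2, mul_one]
  · intro e
    calc w * x = w * x * (w * w) := by rw [w2, mul_one]
      _ = (w * x * w) * w := by simp only [mul_assoc]
      _ = x * w := by rw [e]

variable (hs : cj w Q₁ = Q₂)

include hs

theorem swap' : cj w Q₂ = Q₁ := by
  rw [← hs, ← cj_mul, w2, cj_one]

theorem m12 {q : G} (hq : q ∈ Q₁) : w * q * w ∈ Q₂ := by
  have h1 := conj_mem_cj (x := w) (X := Q₁) |>.2 hq
  rwa [hs, inv_of_sq w2] at h1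

theorem m21 {q : G} (hq : q ∈ Q₂) : w * q * w ∈ Q₁ := m12 w2 (swap' w2 hs) hq

theorem mX {q : G} (hq : q ∈ Q₁ ⊓ Q₂) : w * q * w ∈ Q₁ ⊓ Q₂ := ⟨m21 w2 hs hq.2, m12 w2 hs hq.1⟩

theorem mT {q : G} (hq : q ∈ Q₁ ⊔ Q₂) : w * q * w ∈ Q₁ ⊔ Q₂ := by
  have h1 : cj w (Q₁ ⊔ Q₂) = Q₁ ⊔ Q₂ := by rw [cj_sup, hs, swap' w2 hs, sup_comm]
  have h2 := conj_mem_cj (x := w) (X := Q₁ ⊔ Q₂) |>.2 hq
  rwa [h1, inv_of_sq w2] at h2

include h

/-- the form of an element `ab` with `a b^w ∈ X` -/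
theorem form_of {a b : G} (ha : a ∈ Q₁) (hab : a * (w * b * w) ∈ Q₁ ⊓ Q₂) :
    ∃ x ∈ Q₁ ⊓ Q₂, a * b = a * (w * a * w) * x := by
  refine ⟨w * (a * (w * b * w)) * w, mX w2 hs hab, ?_⟩
  rw [conj_mul w2, conj_conj w2, mul_assoc, ← mul_assoc (w * a * w), h.ea₂.sq _ (m12 w2 hs ha), one_mul]

theorem form_fix {t : G} (ht : t ∈ Q₁ ⊔ Q₂) (hf : w * t = t * w) :
    ∃ q ∈ Q₁, ∃ x ∈ Q₁ ⊓ Q₂, t = q * (w * q * w) * x := by
  obtain ⟨a, ha, b, hb, rfl⟩ := h.decomp ht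
  have h1 := (comm_iff w2).1 hf
  rw [conj_mul w2] at h1
  have hA := m12 w2 hs ha
  have hB := m21 w2 hs hb
  obtain ⟨A, hAe⟩ : ∃ A, A = w * a * w := ⟨_, rfl⟩
  obtain ⟨B, hBe⟩ : ∃ B, B = w * b * w := ⟨_, rfl⟩
  rw [← hAe] at hA
  rw [← hBe] at hB
  rw [← hAe, ← hBe] at h1
  -- `A B = a b`
  have hc := h.comm_mem (Subgroup.mem_sup_right (S := Q₁) hA) (Subgroup.mem_sup_left (T := Q₂) hB)
  obtain ⟨c, hce⟩ : ∃ c, c = A * B * A⁻¹ * B⁻¹ := ⟨_, rfl⟩
  rw [← hce] at hc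
  have e1 : A * B = c * (B * A) := by rw [hce]; group
  -- `a b = c B A`, so `a⁻¹ c B = b A⁻¹`
  have hab : a * B ∈ Q₁ ⊓ Q₂ := by
    have e2 : a⁻¹ * (c * B) = b * A⁻¹ := by
      rw [e1] at h1
      have h2 : c * B * A = a * b := by rw [mul_assoc]; exact h1
      rw [eq_mul_inv_iff_mul_eq, mul_assoc, h2, inv_mul_cancel_left]
    have m1 : a⁻¹ * (c * B) ∈ Q₂ := by rw [e2]; exact mul_mem hb (inv_mem hA)
    have m2 : a⁻¹ * (c * B) = c * (a * B) := by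
      rw [EA.inv h.ea₁ ha, ← mul_assoc, h.ea₁.comm a ha c hc.1, mul_assoc]
    rw [m2] at m1
    exact ⟨mul_mem ha hB, (Subgroup.mul_mem_cancel_left _ hc.2).1 m1⟩
  obtain ⟨x, hx, e⟩ := form_of h w2 hs ha (by rw [← hBe]; exact hab)
  exact ⟨a, ha, x, hx, e⟩

theorem form_four {t : G} (ht : t ∈ Q₁ ⊔ Q₂) (hf : (t * w) ^ 4 = 1) :
    ∃ q ∈ Q₁, ∃ x ∈ Q₁ ⊓ Q₂, t = q * (w * q * w) * x := by
  obtain ⟨a, ha, b, hb, rfl⟩ := h.decomp ht
  have hA := m12 w2 hs ha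
  have hB := m21 w2 hs hb
  obtain ⟨A, hAe⟩ : ∃ A, A = w * a * w := ⟨_, rfl⟩
  obtain ⟨B, hBe⟩ : ∃ B, B = w * b * w := ⟨_, rfl⟩
  rw [← hAe] at hA
  rw [← hBe] at hB
  -- `s = a b A B`
  have hs1 : (a * b * w) * (a * b * w) = a * b * (A * B) := by
    rw [hAe, hBe, ← conj_mul w2]
    simp only [mul_assoc]
  have hsT : a * b * (A * B) ∈ Q₁ ⊔ Q₂ :=
    mul_mem ht (mul_mem (Subgroup.mem_sup_right hA) (Subgroup.mem_sup_left hB))
  have hss : (a * b * (A * B)) * (a * b * (A * B)) = 1 := by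
    rw [← hs1, ← hf]
    simp only [pow_succ, pow_zero, one_mul, mul_assoc]
  have hc := h.comm_mem (Subgroup.mem_sup_right (S := Q₁) (mul_mem hb hA))
    (Subgroup.mem_sup_left (T := Q₂) hB)
  obtain ⟨c, hce⟩ : ∃ c, c = (b * A) * B * (b * A)⁻¹ * B⁻¹ := ⟨_, rfl⟩
  rw [← hce] at hc
  have e1 : a * b * (A * B) = c * ((a * B) * (b * A)) := by
    have e2 : (b * A) * B = c * (B * (b * A)) := by rw [hce]; group
    calc a * b * (A * B) = a * ((b * A) * B) := by simp only [mul_assoc]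
      _ = (a * c) * (B * (b * A)) := by rw [e2, ← mul_assoc]
      _ = (c * a) * (B * (b * A)) := by rw [h.ea₁.comm a ha c hc.1]
      _ = _ := by simp only [mul_assoc]
  have hbA : b * A = w * (a * B) * w := by
    rw [conj_mul w2, ← hAe, hBe, conj_conj w2, h.ea₂.comm b hb A hA]
  have haB : a * B ∈ Q₁ := mul_mem ha hB
  have hab : a * B ∈ Q₁ ⊓ Q₂ := by
    refine ⟨haB, ?_⟩
    rcases h.inv hsT hss with h1 | h1
    · rw [e1] at h1
      have h2 := (Subgroup.mul_mem_cancel_left _ haB).1 ((Subgroup.mul_mem_cancel_left _ hc.1).1 h1)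
      rw [hbA] at h2
      have h3 := m12 w2 hs h2
      rwa [conj_conj w2] at h3
    · rw [e1] at h1
      have h2 := (Subgroup.mul_mem_cancel_left _ hc.2).1 h1
      exact (Subgroup.mul_mem_cancel_right _ (mul_mem hb hA)).1 h2
  obtain ⟨x, hx, e⟩ := form_of h w2 hs ha (by rw [← hBe]; exact hab)
  exact ⟨a, ha, x, hx, e⟩

end swap

section more

variable {Q₁ Q₂ : Subgroup G} {τ : G}

theorem exists_ne (h : Six Q₁ Q₂ τ) : ∃ x ∈ Q₁ ⊓ Q₂, x ≠ 1 := by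
  by_contra hcon
  push Not at hcon
  have h1 : Q₁ ⊓ Q₂ = ⊥ := by
    rw [eq_bot_iff]
    intro x hx
    rw [Subgroup.mem_bot]
    exact hcon x hx
  have h2 := h.pair.inf
  rw [h1, Subgroup.card_bot] at h2
  omega

theorem exists_out (h : Six Q₁ Q₂ τ) : ∃ p ∈ Q₁, p ∉ Q₂ := by
  by_contra hcon
  push Not at hcon
  have h1 : Q₁ ⊓ Q₂ = Q₁ := inf_eq_left.2 hcon
  have h2 := h.pair.inf
  rw [h1, h.pair.ea₁.card] at h2
  omega

theorem card_T [Finite G] (h : Six Q₁ Q₂ τ) : Nat.card ↥(Q₁ ⊔ Q₂) = 64 := by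
  have h1 := h.pair.card_sup
  omega

theorem X_of_inv (h : Six Q₁ Q₂ τ) {w z : G} (w2 : w * w = 1) (hinv : w * τ * w = τ⁻¹) (hz : z ∈ Q₁ ⊓ Q₂)
    (hz1 : z ≠ 1) (hwz : w * z = z * w) : ∀ x ∈ Q₁ ⊓ Q₂, w * x = x * w → x = 1 ∨ x = z := by
  intro x hx hwx
  by_contra hcon
  push Not at hcon
  have key := four h.eaX.card h.eaX.sq hx hz hcon.1 hz1 hcon.2
  have hall : ∀ y ∈ Q₁ ⊓ Q₂, w * y = y * w := by
    intro y hy
    rcases key y hy with rfl | rfl | rfl | rfl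
    · rw [mul_one, one_mul]
    · exact hwx
    · exact hwz
    · rw [← mul_assoc, hwx, mul_assoc, hwz, mul_assoc]
  have h1 := hall _ (conj_mem_of_Nm h.nX hz)
  rw [comm_iff w2, conj_mul w2, conj_mul w2, hinv, (comm_iff w2).1 hwz] at h1
  have h2 : w * τ⁻¹ * w = τ := by
    rw [← hinv]
    exact conj_conj w2 τ
  rw [h2] at h1
  apply hz1
  apply h.fpf' (inf_le_sup' hz)
  calc τ * τ * z = τ * (τ * z * τ⁻¹) * τ := by group
    _ = τ * (τ⁻¹ * z * τ) * τ := by rw [← h1]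
    _ = z * (τ * τ) := by group

/-- `[X,σ] = X` for a fixed point free `σ` -/
theorem fpf_quot [Finite G] {Q X : Subgroup G} (hX : X ≤ Q) (hQ : ∀ x ∈ Q, ∀ y ∈ Q, x * y = y * x) {σ : G} (hn : σ ∈ Nm X)
    (hf : ∀ t ∈ Q, σ * t = t * σ → t = 1) {q : G} (hq : q ∈ Q) (hm : σ * q * σ⁻¹ * q⁻¹ ∈ X) : q ∈ X := by
  let φ : X → X := fun y => ⟨σ * y * σ⁻¹ * (y : G)⁻¹, mul_mem (conj_mem_of_Nm hn y.2) (inv_mem y.2)⟩
  have hinj : Function.Injective φ := by
    intro y y' e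
    have e1 : σ * (y : G) * σ⁻¹ * (y : G)⁻¹ = σ * (y' : G) * σ⁻¹ * (y' : G)⁻¹ := congrArg Subtype.val e
    have hyc : (y : G)⁻¹ * y' = y' * (y : G)⁻¹ := hQ _ (inv_mem (hX y.2)) _ (hX y'.2)
    have h1 := hf ((y : G)⁻¹ * y') (mul_mem (inv_mem (hX y.2)) (hX y'.2)) (by
      -- σ y⁻¹ y' σ⁻¹ = y⁻¹ y'
      have a1 : σ * (y' : G) * σ⁻¹ = σ * (y : G) * σ⁻¹ * (y : G)⁻¹ * y' := by rw [e1]; group
      have a2 : σ * ((y : G)⁻¹ * y') * σ⁻¹ = (y : G)⁻¹ * y' := by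
        calc σ * ((y : G)⁻¹ * y') * σ⁻¹ = (σ * (y : G) * σ⁻¹)⁻¹ * (σ * (y' : G) * σ⁻¹) := by group
          _ = (y : G)⁻¹ * y' := by rw [a1]; group
      exact mul_inv_eq_iff_eq_mul.1 a2)
    exact Subtype.ext (inv_mul_eq_one.1 h1)
  obtain ⟨y, hy⟩ := Finite.surjective_of_injective hinj ⟨_, inv_mem hm⟩
  have e1 : σ * (y : G) * σ⁻¹ * (y : G)⁻¹ = (σ * q * σ⁻¹ * q⁻¹)⁻¹ := congrArg Subtype.val hy
  obtain ⟨c, hc⟩ : ∃ c, c = σ * q * σ⁻¹ * q⁻¹ := ⟨_, rfl⟩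
  rw [← hc] at e1 hm
  have a1 : σ * (y : G) * σ⁻¹ = c⁻¹ * y := by rw [← e1]; group
  have a2 : σ * q * σ⁻¹ = c * q := by rw [hc]; group
  have h1 := hf (q * y) (mul_mem hq (hX y.2)) (by
    have a3 : σ * (q * y) * σ⁻¹ = q * y := by
      calc σ * (q * y) * σ⁻¹ = (σ * q * σ⁻¹) * (σ * y * σ⁻¹) := by group
        _ = (c * q) * (c⁻¹ * y) := by rw [a1, a2]
        _ = (q * c) * (c⁻¹ * y) := by rw [hQ c (hX hm) q hq]
        _ = q * y := by group
    exact mul_inv_eq_iff_eq_mul.1 a3)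
  have h2 : q = (y : G)⁻¹ := eq_inv_of_mul_eq_one_left h1
  rw [h2]
  exact inv_mem y.2

/-- `|C_Y(s)|² ≤ |Y|` -/
theorem card_le [Finite G] {Y : Subgroup G} {s σ : G} (s2 : s * s = 1) (hinv : s * σ * s = σ⁻¹) (hn : σ ∈ Nm Y)
    (hf : ∀ t ∈ Y, σ * σ * t = t * (σ * σ) → t = 1) :
    Nat.card ↥(Y ⊓ Subgroup.centralizer {s}) * Nat.card ↥(Y ⊓ Subgroup.centralizer {s}) ≤ Nat.card Y := by
  set C := Y ⊓ Subgroup.centralizer {s} with hC
  have hC' : cj σ C ≤ Y := by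
    rw [cj_le_iff, cj_of_mem_Nm (inv_mem hn)]
    exact inf_le_left
  have hint : C ⊓ cj σ C = ⊥ := by
    rw [eq_bot_iff]
    rintro t ⟨⟨ht, hts⟩, ht'⟩
    replace ht' := mem_cj.1 (show t ∈ cj σ C from ht')
    have h1 := Subgroup.mem_centralizer_singleton_iff.1 hts
    have h2 := Subgroup.mem_centralizer_singleton_iff.1 ht'.2
    rw [Subgroup.mem_bot]
    apply hf t ht
    have h3 : s * t * s = t := (comm_iff s2).1 h1.symm
    have h4 := (comm_iff s2).1 h2.symm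
    have h5 : s * σ⁻¹ * s = σ := by rw [← hinv]; exact conj_conj s2 σ
    rw [conj_mul s2, conj_mul s2, h5, h3, hinv] at h4
    calc σ * σ * t = σ * (σ * t * σ⁻¹) * σ := by group
      _ = σ * (σ⁻¹ * t * σ) * σ := by rw [h4]
      _ = t * (σ * σ) := by group
  have h1 := Cfsg.Agent.Lib.ProductSet.card_mul_card_inf C (cj σ C)
  rw [hint, Subgroup.card_bot, mul_one, card_cj] at h1
  rw [← h1]
  apply Nat.card_mono (Set.toFinite _)
  rintro _ ⟨a, ha, b, hb, rfl⟩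
  exact mul_mem ha.1 (hC' hb)

/-- `|Y| ≤ |C_Y(s)|²` for elementary abelian `Y` -/
theorem le_card [Finite G] {Y : Subgroup G} {n : ℕ} {s : G} (hY : EA Y n) (s2 : s * s = 1) (hn : s ∈ Nm Y) :
    n ≤ Nat.card ↥(Y ⊓ Subgroup.centralizer {s}) * Nat.card ↥(Y ⊓ Subgroup.centralizer {s}) := by
  have hsY : ∀ y ∈ Y, s * y * s ∈ Y := by
    intro y hy
    have h1 := conj_mem_of_Nm hn hy
    rwa [inv_of_sq s2] at h1
  let φ : Y →* Y :=
    { toFun := fun y => ⟨y * (s * y * s), mul_mem y.2 (hsY y y.2)⟩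
      map_one' := Subtype.ext (by simp [s2])
      map_mul' := fun a b => Subtype.ext (by
        change (a : G) * b * (s * (a * b) * s) = a * (s * a * s) * (b * (s * b * s))
        rw [conj_mul s2]
        have h1 := hY.comm _ (hsY a a.2) b b.2
        calc (a : G) * b * ((s * a * s) * (s * b * s)) = a * (b * (s * a * s)) * (s * b * s) := by
              simp only [mul_assoc]
          _ = _ := by rw [← h1]; simp only [mul_assoc]) }
  have hφ : ∀ y : Y, ((φ y : Y) : G) = y * (s * y * s) := fun y => rfl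
  set C := Y ⊓ Subgroup.centralizer {s} with hC
  have memC : ∀ y ∈ Y, s * y * s = y → y ∈ C := fun y hy h1 =>
    ⟨hy, Subgroup.mem_centralizer_singleton_iff.2 ((comm_iff s2).2 h1).symm⟩
  have hker : Nat.card φ.ker ≤ Nat.card C := by
    apply Nat.card_le_card_of_injective (fun y : φ.ker => (⟨((y : Y) : G), memC _ (y : Y).2 (by
      have h1 : φ y = 1 := y.2
      have h2 := congrArg Subtype.val h1
      rw [hφ] at h2
      have h3 : s * ((y : Y) : G) * s = ((y : Y) : G)⁻¹ := eq_inv_of_mul_eq_one_right h2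
      rw [h3, EA.inv hY (y : Y).2])⟩ : C))
    intro a b e
    have e1 : ((a : Y) : G) = ((b : Y) : G) := congrArg (fun z : C => (z : G)) e
    exact Subtype.ext (Subtype.ext e1)
  have hran : Nat.card φ.range ≤ Nat.card C := by
    apply Nat.card_le_card_of_injective (fun y : φ.range => (⟨((y : Y) : G), memC _ (y : Y).2 (by
      obtain ⟨x, hx⟩ := y.2
      rw [← hx, hφ, conj_mul s2, conj_conj s2]
      exact hY.comm _ (hsY x x.2) _ x.2)⟩ : C))
    intro a b e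
    have e1 : ((a : Y) : G) = ((b : Y) : G) := congrArg (fun z : C => (z : G)) e
    exact Subtype.ext (Subtype.ext e1)
  have h1 := φ.ker.card_mul_index
  rw [Subgroup.index_ker] at h1
  rw [← hY.card, ← h1]
  exact Nat.mul_le_mul hker hran

end more

end BT

section one

variable {Q₁ Q₂ : Subgroup G} {τ u : G}

theorem TypeOne.swap' (h : TypeOne Q₁ Q₂ τ u) : cj u Q₂ = Q₁ := BT.swap' h.u2 h.swap

theorem TypeOne.X [Finite G] (h : TypeOne Q₁ Q₂ τ u) : ∀ x ∈ Q₁ ⊓ Q₂, u * x = x * u := by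
  obtain ⟨x0, hx0, hx01, hf⟩ : ∃ x ∈ Q₁ ⊓ Q₂, x ≠ 1 ∧ u * x = x * u := by
    obtain ⟨x, hx, hx1⟩ := BT.exists_ne h.six
    by_cases hux : u * x * u = x
    · exact ⟨x, hx, hx1, (BT.comm_iff h.u2).2 hux⟩
    · have hx' := BT.mX h.u2 h.swap hx
      refine ⟨x * (u * x * u), mul_mem hx hx', ?_, ?_⟩
      · intro e
        apply hux
        rw [eq_inv_of_mul_eq_one_right e, BT.EA.inv h.six.eaX hx]
      · rw [BT.comm_iff h.u2, BT.conj_mul h.u2, BT.conj_conj h.u2]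
        exact h.six.eaX.comm _ hx' _ hx
  have hcτ : Commute u τ := h.comm
  have hcx : Commute u x0 := hf
  intro y hy
  by_cases hy1 : y = 1
  · rw [hy1, mul_one, one_mul]
  · rcases h.six.transX hx0 hx01 hy hy1 with rfl | rfl | rfl
    · exact hf
    · exact ((hcτ.mul_right hcx).mul_right hcτ.inv_right)
    · exact (((hcτ.mul_right hcτ).mul_right hcx).mul_right (hcτ.mul_right hcτ).inv_right)

theorem TypeOne.cent [Finite G] (h : TypeOne Q₁ Q₂ τ u) : ∀ t ∈ Q₁ ⊔ Q₂, u * t = t * u → t ∈ Q₁ ⊓ Q₂ := by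
  intro t ht hc
  obtain ⟨q, hq, x, hx, rfl⟩ := BT.form_fix h.six.pair h.u2 h.swap ht hc
  have hxu := (BT.comm_iff h.u2).1 (h.X x hx)
  have h1 := (BT.comm_iff h.u2).1 hc
  rw [BT.conj_mul h.u2, BT.conj_mul h.u2, BT.conj_conj h.u2, hxu] at h1
  have h2 : q * (u * q * u) = (u * q * u) * q := (mul_right_cancel h1).symm
  have hq' := BT.m12 h.u2 h.swap hq
  have hqX : q ∈ Q₁ ⊓ Q₂ := by
    rcases h.six.pair.nondeg q hq _ hq' h2 with h3 | h3
    · exact ⟨hq, h3⟩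
    · refine ⟨hq, ?_⟩
      have h4 := BT.m12 h.u2 h.swap h3
      rwa [BT.conj_conj h.u2] at h4
  exact mul_mem (mul_mem hqX (BT.mX h.u2 h.swap hqX)) hx

/-- the elements `t` of `T` with `(tu)² = 1` (equivalently with `(tu)⁴ = 1`) are the products `q (u q u) x` -/
theorem TypeOne.form [Finite G] (h : TypeOne Q₁ Q₂ τ u) :
    ∀ t ∈ Q₁ ⊔ Q₂, (t * u) ^ 4 = 1 → ∃ q ∈ Q₁, ∃ x ∈ Q₁ ⊓ Q₂, t = q * (u * q * u) * x :=
  fun _ ht hf => BT.form_four h.six.pair h.u2 h.swap ht hf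

theorem TypeOne.sq [Finite G] (h : TypeOne Q₁ Q₂ τ u) :
    ∀ t ∈ Q₁ ⊔ Q₂, (t * u) ^ 4 = 1 → (t * u) * (t * u) = 1 := by
  intro t ht hf
  obtain ⟨q, hq, x, hx, rfl⟩ := h.form t ht hf
  have hxu := (BT.comm_iff h.u2).1 (h.X x hx)
  obtain ⟨r, hr⟩ : ∃ r, r = u * q * u := ⟨_, rfl⟩
  have hrT : r ∈ Q₁ ⊔ Q₂ := by rw [hr]; exact Subgroup.mem_sup_right (BT.m12 h.u2 h.swap hq)
  have hxr := h.six.pair.comm_inf hx hrT
  have hxq := h.six.pair.comm_inf hx (Subgroup.mem_sup_left (T := Q₂) hq)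
  have e1 : u * (q * (u * q * u) * x) * u = r * q * x := by
    rw [BT.conj_mul h.u2, BT.conj_mul h.u2, BT.conj_conj h.u2, hxu, hr]
  have hrr : r * r = 1 := by rw [hr]; exact h.six.pair.ea₂.sq _ (BT.m12 h.u2 h.swap hq)
  calc q * (u * q * u) * x * u * (q * (u * q * u) * x * u) =
      q * (u * q * u) * x * (u * (q * (u * q * u) * x) * u) := by simp only [mul_assoc]
    _ = q * r * (x * r) * q * x := by rw [e1, ← hr]; simp only [mul_assoc]
    _ = q * (r * r) * (x * q) * x := by rw [hxr]; simp only [mul_assoc]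
    _ = (q * q) * (x * x) := by rw [hrr, hxq, mul_one]; simp only [mul_assoc]
    _ = 1 := by rw [h.six.pair.ea₁.sq q hq, h.six.eaX.sq x hx, one_mul]

/-- every element of `X` is a commutator `[p, upu]` -/
theorem TypeOne.exists_comm [Finite G] (h : TypeOne Q₁ Q₂ τ u) {x : G} (hx : x ∈ Q₁ ⊓ Q₂) (hx1 : x ≠ 1) :
    ∃ p ∈ Q₁, p * (u * p * u) * p * (u * p * u) = x := by
  obtain ⟨p, hp, hp2⟩ := BT.exists_out h.six
  have hp' := BT.m12 h.u2 h.swap hp
  have hpp := h.six.pair.ea₁.sq p hp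
  have hpp' := h.six.pair.ea₂.sq _ hp'
  have hK : p * (u * p * u) * p * (u * p * u) ∈ Q₁ ⊓ Q₂ := by
    have h1 := h.six.pair.comm_mem (Subgroup.mem_sup_left (T := Q₂) hp) (Subgroup.mem_sup_right (S := Q₁) hp')
    rwa [BT.inv_of_sq hpp, BT.inv_of_sq hpp'] at h1
  have hK1 : p * (u * p * u) * p * (u * p * u) ≠ 1 := by
    intro e
    have h1 : p * (u * p * u) = (u * p * u) * p := by
      have h2 : p * (u * p * u) = (p * (u * p * u))⁻¹ := eq_inv_of_mul_eq_one_left (by rw [← e]; simp only [mul_assoc])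
      rw [h2, mul_inv_rev, BT.inv_of_sq hpp, BT.inv_of_sq hpp']
    rcases h.six.pair.nondeg p hp _ hp' h1 with h3 | h3
    · exact hp2 h3
    · apply hp2
      have h4 := BT.m12 h.u2 h.swap h3
      rwa [BT.conj_conj h.u2] at h4
  -- conjugation by elements commuting with `u`
  have key : ∀ g : G, Commute u g → g * (p * (u * p * u) * p * (u * p * u)) * g⁻¹ =
      (g * p * g⁻¹) * (u * (g * p * g⁻¹) * u) * (g * p * g⁻¹) * (u * (g * p * g⁻¹) * u) := by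
    intro g hg
    have e1 : u * (g * p * g⁻¹) * u = g * (u * p * u) * g⁻¹ := by
      have h1 : u * g = g * u := hg
      have h2 : g⁻¹ * u = u * g⁻¹ := hg.inv_right.symm
      calc u * (g * p * g⁻¹) * u = (u * g) * p * (g⁻¹ * u) := by simp only [mul_assoc]
        _ = (g * u) * p * (u * g⁻¹) := by rw [h1, h2]
        _ = _ := by simp only [mul_assoc]
    rw [e1]
    group
  have hcτ : Commute u τ := h.comm
  rcases h.six.transX hK hK1 hx hx1 with e | e | e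
  · exact ⟨p, hp, e.symm⟩
  · refine ⟨τ * p * τ⁻¹, BT.conj_mem_of_Nm h.six.n₁ hp, ?_⟩
    rw [e, key τ hcτ]
  · refine ⟨(τ * τ) * p * (τ * τ)⁻¹, BT.conj_mem_of_Nm (mul_mem h.six.n₁ h.six.n₁) hp, ?_⟩
    rw [e, key (τ * τ) (hcτ.mul_right hcτ)]

/-- the conjugate of an involution `w` under `p (wpw)` -/
theorem BT.conj_K {w p : G} (w2 : w * w = 1) (hp : p * p = 1) :
    (p * (w * p * w)) * w * (p * (w * p * w))⁻¹ = p * (w * p * w) * p * (w * p * w) * w := by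
  have h1 : (w * p * w)⁻¹ = w * p * w := by
    rw [mul_inv_rev, mul_inv_rev, BT.inv_of_sq w2, BT.inv_of_sq hp, mul_assoc]
  rw [mul_inv_rev, h1, BT.inv_of_sq hp]
  calc p * (w * p * w) * w * (w * p * w * p) = p * w * p * (w * w) * w * p * w * p := by simp only [mul_assoc]
    _ = p * w * p * w * p * w * p := by rw [w2, mul_one]
    _ = p * w * p * w * p * w * p * (w * w) := by rw [w2, mul_one]
    _ = _ := by simp only [mul_assoc]

theorem TypeOne.conj [Finite G] (h : TypeOne Q₁ Q₂ τ u) :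
    ∀ t ∈ Q₁ ⊔ Q₂, (t * u) * (t * u) = 1 → ∃ y ∈ Q₁ ⊔ Q₂, y * u * y⁻¹ = t * u := by
  intro t ht hf
  obtain ⟨q, hq, x, hx, rfl⟩ := h.form t ht (by
    rw [show 4 = 2 + 2 from rfl, pow_add, pow_two, hf, one_mul])
  have hqq := h.six.pair.ea₁.sq q hq
  obtain ⟨w, hw, hwu⟩ : ∃ w ∈ Q₁ ⊔ Q₂, w * u * w⁻¹ = x * u := by
    by_cases hx1 : x = 1
    · exact ⟨1, one_mem _, by rw [hx1]; group⟩
    · obtain ⟨p, hp, hpx⟩ := h.exists_comm hx hx1
      refine ⟨p * (u * p * u), mul_mem (Subgroup.mem_sup_left hp)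
        (Subgroup.mem_sup_right (BT.m12 h.u2 h.swap hp)), ?_⟩
      rw [BT.conj_K h.u2 (h.six.pair.ea₁.sq p hp), hpx]
  refine ⟨q * w, mul_mem (Subgroup.mem_sup_left hq) hw, ?_⟩
  have hxq := h.six.pair.comm_inf hx (Subgroup.mem_sup_left (T := Q₂) hq)
  have hxr := h.six.pair.comm_inf hx (Subgroup.mem_sup_right (S := Q₁) (BT.m12 h.u2 h.swap hq))
  calc q * w * u * (q * w)⁻¹ = q * (w * u * w⁻¹) * q⁻¹ := by group
    _ = q * x * u * q := by rw [hwu, BT.inv_of_sq hqq]; simp only [mul_assoc]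
    _ = q * x * (u * q * (u * u)) := by rw [h.u2, mul_one]; simp only [mul_assoc]
    _ = q * (x * (u * q * u)) * u := by simp only [mul_assoc]
    _ = q * (u * q * u) * x * u := by rw [hxr]; simp only [mul_assoc]

end one

section two

variable {Q₁ Q₂ : Subgroup G} {τ v z : G}

theorem TypeTwo.swap' (h : TypeTwo Q₁ Q₂ τ v z) : cj v Q₂ = Q₁ := BT.swap' h.v2 h.swap

theorem TypeTwo.X [Finite G] (h : TypeTwo Q₁ Q₂ τ v z) : ∀ x ∈ Q₁ ⊓ Q₂, v * x = x * v → x = 1 ∨ x = z :=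
  BT.X_of_inv h.six h.v2 h.inv ⟨h.z₁, h.z₂⟩ h.zne h.vz

theorem TypeTwo.Xcomm [Finite G] (h : TypeTwo Q₁ Q₂ τ v z) :
    ∀ x ∈ Q₁ ⊓ Q₂, v * x * v * x = 1 ∨ v * x * v * x = z := by
  intro x hx
  have hx' := BT.mX h.v2 h.swap hx
  apply h.X _ (mul_mem hx' hx)
  rw [BT.comm_iff h.v2, BT.conj_mul h.v2, BT.conj_conj h.v2]
  exact h.six.eaX.comm x hx _ hx'

/-- `[q, vqv] = z` for `q ∈ Q₁ - X` (elements of order at most 2) -/
theorem TypeTwo.pair [Finite G] (h : TypeTwo Q₁ Q₂ τ v z) :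
    ∀ q ∈ Q₁, q ∉ Q₂ → q * (v * q * v) * q * (v * q * v) = z := by
  intro p hp hp2
  have hp' := BT.m12 h.v2 h.swap hp
  have hpp := h.six.pair.ea₁.sq p hp
  have hpp' := h.six.pair.ea₂.sq _ hp'
  have hK : p * (v * p * v) * p * (v * p * v) ∈ Q₁ ⊓ Q₂ := by
    have h1 := h.six.pair.comm_mem (Subgroup.mem_sup_left (T := Q₂) hp) (Subgroup.mem_sup_right (S := Q₁) hp')
    rwa [BT.inv_of_sq hpp, BT.inv_of_sq hpp'] at h1
  have hK1 : p * (v * p * v) * p * (v * p * v) ≠ 1 := by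
    intro e
    have h1 : p * (v * p * v) = (v * p * v) * p := by
      have h2 : p * (v * p * v) = (p * (v * p * v))⁻¹ := eq_inv_of_mul_eq_one_left (by rw [← e]; simp only [mul_assoc])
      rw [h2, mul_inv_rev, BT.inv_of_sq hpp, BT.inv_of_sq hpp']
    rcases h.six.pair.nondeg p hp _ hp' h1 with h3 | h3
    · exact hp2 h3
    · apply hp2
      have h4 := BT.m12 h.v2 h.swap h3
      rwa [BT.conj_conj h.v2] at h4
  refine (h.X _ hK ?_).resolve_left hK1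
  rw [BT.comm_iff h.v2, BT.conj_mul h.v2, BT.conj_mul h.v2, BT.conj_mul h.v2, BT.conj_conj h.v2]
  have h2 : (v * p * v) * p * (v * p * v) * p = (p * (v * p * v) * p * (v * p * v))⁻¹ := by
    generalize v * p * v = r at *
    rw [mul_inv_rev, mul_inv_rev, mul_inv_rev, BT.inv_of_sq hpp, BT.inv_of_sq hpp']
    simp only [mul_assoc]
  rw [h2, BT.EA.inv h.six.eaX hK]

theorem TypeTwo.form [Finite G] (h : TypeTwo Q₁ Q₂ τ v z) :
    ∀ t ∈ Q₁ ⊔ Q₂, v * t = t * v → ∃ q ∈ Q₁, ∃ x ∈ Q₁ ⊓ Q₂, t = q * (v * q * v) * x :=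
  fun _ ht hf => BT.form_fix h.six.pair h.v2 h.swap ht hf

theorem TypeTwo.sq [Finite G] (h : TypeTwo Q₁ Q₂ τ v z) :
    ∀ t ∈ Q₁ ⊔ Q₂, v * t = t * v → t ∉ Q₁ ⊓ Q₂ → t * t = z := by
  intro t ht hf htX
  obtain ⟨q, hq, x, hx, rfl⟩ := h.form t ht hf
  have hq2 : q ∉ Q₂ := by
    intro hq2
    apply htX
    exact mul_mem (mul_mem ⟨hq, hq2⟩ (BT.mX h.v2 h.swap ⟨hq, hq2⟩)) hx
  have hxq := h.six.pair.comm_inf hx (mul_mem (Subgroup.mem_sup_left (T := Q₂) hq)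
    (Subgroup.mem_sup_right (S := Q₁) (BT.m12 h.v2 h.swap hq)))
  calc q * (v * q * v) * x * (q * (v * q * v) * x) = q * (v * q * v) * (x * (q * (v * q * v))) * x := by
        simp only [mul_assoc]
    _ = (q * (v * q * v) * q * (v * q * v)) * (x * x) := by rw [hxq]; simp only [mul_assoc]
    _ = z := by rw [h.pair q hq hq2, h.six.eaX.sq x hx, mul_one]

/-- there is `x ∈ X` with `[v, x] = z` -/
theorem TypeTwo.exists_X [Finite G] (h : TypeTwo Q₁ Q₂ τ v z) : ∃ x ∈ Q₁ ⊓ Q₂, v * x * v * x = z := by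
  have hz : z ∈ Q₁ ⊓ Q₂ := ⟨h.z₁, h.z₂⟩
  have hz' := BT.conj_mem_of_Nm h.six.nX hz
  refine ⟨_, hz', (h.Xcomm _ hz').resolve_left ?_⟩
  intro e
  have h1 : v * (τ * z * τ⁻¹) = (τ * z * τ⁻¹) * v := by
    rw [BT.comm_iff h.v2]
    rw [eq_inv_of_mul_eq_one_left e, BT.EA.inv h.six.eaX hz']
  rcases h.X _ hz' h1 with h2 | h2
  · apply h.zne
    rw [mul_inv_eq_one] at h2
    exact mul_eq_left.1 h2
  · apply h.zne
    apply h.six.fpf z (BT.inf_le_sup' hz)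
    exact mul_inv_eq_iff_eq_mul.1 h2

theorem TypeTwo.card [Finite G] (h : TypeTwo Q₁ Q₂ τ v z) :
    Nat.card ↥((Q₁ ⊔ Q₂) ⊓ Subgroup.centralizer {v}) = 8 := by
  obtain ⟨x0, hx0, hx0z⟩ := h.exists_X
  set A := (Q₁ ⊔ Q₂) ⊓ Subgroup.centralizer {v} with hA
  have memA : ∀ t ∈ Q₁ ⊔ Q₂, v * t * v = t → t ∈ A := fun t ht h1 =>
    ⟨ht, Subgroup.mem_centralizer_singleton_iff.2 ((BT.comm_iff h.v2).2 h1).symm⟩
  have hTN : Q₁ ⊔ Q₂ ≤ Nm Q₂ := sup_le h.six.pair.nm₂ (self_le_Nm _)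
  have h1 := card_inf_mul_relIndex A Q₂
  have h2 : Q₂.relIndex A = 4 := by
    rw [← relIndex_sup_of_left (inf_le_left.trans hTN : A ≤ Nm Q₂)]
    have h3 : A ⊔ Q₂ = Q₁ ⊔ Q₂ := by
      apply le_antisymm (sup_le inf_le_left le_sup_right)
      refine sup_le ?_ le_sup_right
      intro q hq
      by_cases hq2 : q ∈ Q₂
      · exact Subgroup.mem_sup_right hq2
      · have hq' := BT.m12 h.v2 h.swap hq
        have hm : q * (v * q * v) * x0 ∈ A := by
          apply memA _ (mul_mem (mul_mem (Subgroup.mem_sup_left hq) (Subgroup.mem_sup_right hq')) (BT.inf_le_sup' hx0))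
          rw [BT.conj_mul h.v2, BT.conj_mul h.v2, BT.conj_conj h.v2]
          have e1 : v * x0 * v = z * x0 := by
            rw [← hx0z, mul_assoc _ x0 x0, h.six.eaX.sq x0 hx0, mul_one]
          have e2 := h.pair q hq hq2
          rw [e1]
          have hzq := h.six.pair.comm_inf ⟨h.z₁, h.z₂⟩ (mul_mem (Subgroup.mem_sup_right (S := Q₁) hq')
            (Subgroup.mem_sup_left (T := Q₂) hq))
          rw [← mul_assoc, ← hzq, ← e2]
          have hpp := h.six.pair.ea₁.sq q hq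
          have hpp' := h.six.pair.ea₂.sq _ hq'
          calc q * (v * q * v) * q * (v * q * v) * (v * q * v * q) * x0 =
              q * (v * q * v) * q * ((v * q * v) * (v * q * v)) * q * x0 := by simp only [mul_assoc]
            _ = q * (v * q * v) * (q * q) * x0 := by rw [hpp', mul_one]; simp only [mul_assoc]
            _ = _ := by rw [hpp, mul_one]
        have e3 : q = (q * (v * q * v) * x0) * (x0⁻¹ * (v * q * v)⁻¹) := by group
        rw [e3]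
        exact mul_mem (Subgroup.mem_sup_left hm) (Subgroup.mem_sup_right (mul_mem (inv_mem hx0.2) (inv_mem hq')))
    rw [h3]
    have h4 := card_mul_relIndex (le_sup_right : Q₂ ≤ Q₁ ⊔ Q₂)
    rw [h.six.pair.ea₂.card, BT.card_T h.six] at h4
    omega
  have h3 : Nat.card ↥(Q₂ ⊓ A) = 2 := by
    have h4 : Q₂ ⊓ A = Subgroup.zpowers z := by
      apply le_antisymm
      · rintro t ⟨ht2, htT, htc⟩
        have hc : v * t = t * v := (Subgroup.mem_centralizer_singleton_iff.1 htc).symm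
        have ht1 : t ∈ Q₁ := by
          have h5 := BT.m21 h.v2 h.swap ht2
          rwa [(BT.comm_iff h.v2).1 hc] at h5
        rcases h.X t ⟨ht1, ht2⟩ hc with rfl | rfl
        · exact one_mem _
        · exact Subgroup.mem_zpowers _
      · rw [Subgroup.zpowers_le]
        exact ⟨h.z₂, memA z (Subgroup.mem_sup_left h.z₁) ((BT.comm_iff h.v2).1 h.vz)⟩
    rw [h4, Nat.card_zpowers]
    exact orderOf_eq_prime (by rw [pow_two]; exact h.six.eaX.sq z ⟨h.z₁, h.z₂⟩) h.zne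
  rw [h2, h3] at h1
  omega

theorem TypeTwo.conj [Finite G] (h : TypeTwo Q₁ Q₂ τ v z) :
    ∀ t ∈ Q₁ ⊔ Q₂, (t * v) * (t * v) = 1 → ∃ y ∈ Q₁ ⊔ Q₂, y * v * y⁻¹ = t * v := by
  intro t ht hf
  obtain ⟨q, hq, x, hx, rfl⟩ := BT.form_four h.six.pair h.v2 h.swap ht (by
    rw [show 4 = 2 + 2 from rfl, pow_add, pow_two, hf, one_mul])
  have hqq := h.six.pair.ea₁.sq q hq
  have hq' := BT.m12 h.v2 h.swap hq
  have hqq' := h.six.pair.ea₂.sq _ hq'
  have hxr := h.six.pair.comm_inf hx (Subgroup.mem_sup_right (S := Q₁) hq')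
  have hxrq := h.six.pair.comm_inf hx (mul_mem (Subgroup.mem_sup_right (S := Q₁) hq')
    (Subgroup.mem_sup_left (T := Q₂) hq))
  have hxv : v * x = x * v := by
    rw [BT.comm_iff h.v2]
    have e1 : (q * (v * q * v) * x) * (v * (q * (v * q * v) * x) * v) = 1 := by
      rw [← hf]; simp only [mul_assoc]
    rw [BT.conj_mul h.v2, BT.conj_mul h.v2, BT.conj_conj h.v2] at e1
    have e2 : (q * (v * q * v) * x) * (v * q * v * q * (v * x * v)) = x * (v * x * v) := by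
      calc (q * (v * q * v) * x) * (v * q * v * q * (v * x * v)) =
          q * (v * q * v) * (x * (v * q * v * q)) * (v * x * v) := by simp only [mul_assoc]
        _ = q * ((v * q * v) * (v * q * v)) * q * x * (v * x * v) := by rw [hxrq]; simp only [mul_assoc]
        _ = (q * q) * x * (v * x * v) := by rw [hqq', mul_one]
        _ = _ := by rw [hqq, one_mul]
    rw [e2] at e1
    rw [eq_inv_of_mul_eq_one_right e1, BT.EA.inv h.six.eaX hx]
  obtain ⟨w, hw, hwu⟩ : ∃ w ∈ Q₁ ⊔ Q₂, w * v * w⁻¹ = x * v := by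
    rcases h.X x hx hxv with rfl | rfl
    · exact ⟨1, one_mem _, by group⟩
    · obtain ⟨p, hp, hp2⟩ := BT.exists_out h.six
      refine ⟨p * (v * p * v), mul_mem (Subgroup.mem_sup_left hp)
        (Subgroup.mem_sup_right (BT.m12 h.v2 h.swap hp)), ?_⟩
      rw [BT.conj_K h.v2 (h.six.pair.ea₁.sq p hp), h.pair p hp hp2]
  refine ⟨q * w, mul_mem (Subgroup.mem_sup_left hq) hw, ?_⟩
  calc q * w * v * (q * w)⁻¹ = q * (w * v * w⁻¹) * q⁻¹ := by group
    _ = q * x * v * q := by rw [hwu, BT.inv_of_sq hqq]; simp only [mul_assoc]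
    _ = q * x * (v * q * (v * v)) := by rw [h.v2, mul_one]; simp only [mul_assoc]
    _ = q * (x * (v * q * v)) * v := by simp only [mul_assoc]
    _ = q * (v * q * v) * x * v := by rw [hxr]; simp only [mul_assoc]

end two

section three

variable {Q₁ Q₂ : Subgroup G} {τ s z : G}

theorem Six.symm (h : Six Q₁ Q₂ τ) : Six Q₂ Q₁ τ :=
  ⟨h.pair.symm, h.three, h.n₂, h.n₁, fun t ht => h.fpf t (by rwa [sup_comm])⟩

theorem TypeThree.symm (h : TypeThree Q₁ Q₂ τ s z) : TypeThree Q₂ Q₁ τ s z :=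
  ⟨h.six.symm, h.s2, h.n₂, h.n₁, h.inv, h.z₂, h.z₁, h.zne, h.sz⟩

theorem TypeThree.X [Finite G] (h : TypeThree Q₁ Q₂ τ s z) : ∀ x ∈ Q₁ ⊓ Q₂, s * x = x * s → x = 1 ∨ x = z :=
  BT.X_of_inv h.six h.s2 h.inv ⟨h.z₁, h.z₂⟩ h.zne h.sz

theorem BT.sq_eq {n k : ℕ} (h1 : n * n ≤ k * k) (h2 : k * k ≤ n * n) : n = k :=
  le_antisymm (Nat.mul_self_le_mul_self_iff.1 h1) (Nat.mul_self_le_mul_self_iff.1 h2)

theorem TypeThree.cardX [Finite G] (h : TypeThree Q₁ Q₂ τ s z) :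
    Nat.card ↥(Q₁ ⊓ Subgroup.centralizer {s}) = 4 := by
  apply BT.sq_eq
  · have h1 := BT.card_le h.s2 h.inv h.six.n₁ (fun t ht hc => h.six.fpf' (Subgroup.mem_sup_left ht) hc)
    rw [h.six.pair.ea₁.card] at h1
    exact h1
  · exact BT.le_card h.six.pair.ea₁ h.s2 h.n₁

theorem TypeThree.memX (h : TypeThree Q₁ Q₂ τ s z) {x : G} (hx : x ∈ Q₁ ⊓ Q₂) : s * x * s ∈ Q₁ ⊓ Q₂ := by
  have h1 : s ∈ Nm (Q₁ ⊓ Q₂) := by rw [mem_Nm, cj_inf, cj_of_mem_Nm h.n₁, cj_of_mem_Nm h.n₂]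
  have h2 := BT.conj_mem_of_Nm h1 hx
  rwa [BT.inv_of_sq h.s2] at h2

theorem TypeThree.mem₁ (h : TypeThree Q₁ Q₂ τ s z) {x : G} (hx : x ∈ Q₁) : s * x * s ∈ Q₁ := by
  have h2 := BT.conj_mem_of_Nm h.n₁ hx
  rwa [BT.inv_of_sq h.s2] at h2

/-- `s` acts nontrivially on `Q₁/X` -/
theorem TypeThree.act [Finite G] (h : TypeThree Q₁ Q₂ τ s z) : ∃ q ∈ Q₁, s * q * s * q⁻¹ ∉ Q₂ := by
  by_contra hcon
  push Not at hcon
  obtain ⟨q, hq, hq2⟩ := BT.exists_out h.six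
  apply hq2
  have hnτ : τ * τ ∈ Nm (Q₁ ⊓ Q₂) := mul_mem h.six.nX h.six.nX
  have h0 : q ∈ Q₁ ⊓ Q₂ := by
    apply BT.fpf_quot inf_le_left h.six.pair.ea₁.comm hnτ
      (fun t ht hc => h.six.fpf' (Subgroup.mem_sup_left ht) hc) hq
    -- `q' = τ q τ⁻¹`
    have hq' := BT.conj_mem_of_Nm h.six.n₁ hq
    have a1 : s * (τ * q * τ⁻¹) * s = τ⁻¹ * (s * q * s) * τ := by
      rw [BT.conj_mul h.s2, BT.conj_mul h.s2, h.inv]
      congr 1
      rw [← h.inv]
      exact BT.conj_conj h.s2 τ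
    have h1 := hcon _ hq'
    rw [a1] at h1
    have h2 := hcon q hq
    have h1' : τ⁻¹ * (s * q * s) * τ * (τ * q * τ⁻¹)⁻¹ ∈ Q₁ ⊓ Q₂ := by
      refine Subgroup.mem_inf.2 ⟨?_, h1⟩
      rw [← a1]
      exact Q₁.mul_mem (h.mem₁ hq') (Q₁.inv_mem hq')
    have h2' : s * q * s * q⁻¹ ∈ Q₁ ⊓ Q₂ := Subgroup.mem_inf.2 ⟨Q₁.mul_mem (h.mem₁ hq) (Q₁.inv_mem hq), h2⟩
    have h3 := BT.conj_mem_of_Nm (inv_mem h.six.nX) h2'
    -- `τ⁻¹ (sqs q⁻¹) τ`
    have h4 := mul_mem (inv_mem h1') h3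
    have h5 := BT.conj_mem_of_Nm h.six.nX h4
    have e : τ * ((τ⁻¹ * (s * q * s) * τ * (τ * q * τ⁻¹)⁻¹)⁻¹ * (τ⁻¹ * (s * q * s * q⁻¹) * τ⁻¹⁻¹)) * τ⁻¹ =
        τ * τ * q * (τ * τ)⁻¹ * q⁻¹ := by group
    rwa [e] at h5
  exact h0.2

theorem TypeThree.card [Finite G] (h : TypeThree Q₁ Q₂ τ s z) :
    Nat.card ↥((Q₁ ⊔ Q₂) ⊓ Subgroup.centralizer {s}) = 8 := by
  apply BT.sq_eq
  · have hn : τ ∈ Nm (Q₁ ⊔ Q₂) := by rw [mem_Nm, cj_sup, cj_of_mem_Nm h.six.n₁, cj_of_mem_Nm h.six.n₂]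
    have h1 := BT.card_le h.s2 h.inv hn (fun t ht hc => h.six.fpf' ht hc)
    rw [BT.card_T h.six] at h1
    exact h1
  · apply Nat.mul_self_le_mul_self
    have h1 := Cfsg.Agent.Lib.ProductSet.card_mul_card_inf (Q₁ ⊓ Subgroup.centralizer {s})
      (Q₂ ⊓ Subgroup.centralizer {s})
    rw [h.cardX, h.symm.cardX] at h1
    have h2 : Nat.card ↥((Q₁ ⊓ Subgroup.centralizer {s}) ⊓ (Q₂ ⊓ Subgroup.centralizer {s})) ≤ 2 := by
      have h4 : (Q₁ ⊓ Subgroup.centralizer {s}) ⊓ (Q₂ ⊓ Subgroup.centralizer {s}) ≤ Subgroup.zpowers z := by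
        rintro t ⟨⟨ht1, htc⟩, ht2, -⟩
        have hc : s * t = t * s := (Subgroup.mem_centralizer_singleton_iff.1 htc).symm
        rcases h.X t ⟨ht1, ht2⟩ hc with rfl | rfl
        · exact one_mem _
        · exact Subgroup.mem_zpowers _
      refine (Subgroup.card_le_of_le h4).trans ?_
      rw [Nat.card_zpowers]
      exact (orderOf_eq_prime (by rw [pow_two]; exact h.six.eaX.sq z ⟨h.z₁, h.z₂⟩) h.zne).le
    have h3 : 8 ≤ Nat.card ↥(((Q₁ ⊓ Subgroup.centralizer {s} : Subgroup G) : Set G) *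
        ((Q₂ ⊓ Subgroup.centralizer {s} : Subgroup G) : Set G)) := by
      by_contra hcon
      push Not at hcon
      have h5 := Nat.mul_le_mul (Nat.le_of_lt_succ hcon) h2
      omega
    refine h3.trans ?_
    apply Nat.card_mono (Set.toFinite _)
    rintro _ ⟨a, ha, b, hb, rfl⟩
    exact mul_mem ⟨Subgroup.mem_sup_left ha.1, ha.2⟩ ⟨Subgroup.mem_sup_right hb.1, hb.2⟩

/-- the four cosets of `X` in `Q` -/
theorem BT.four' {Q X : Subgroup G} (hX : X ≤ Q) (hQ : EA Q 16) (hXc : Nat.card X = 4) {q r : G} (hq : q ∈ Q)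
    (hr : r ∈ Q) (hqX : q ∉ X) (hrX : r ∉ X) (hqr : q * r ∉ X) :
    ∀ a ∈ Q, a ∈ X ∨ a * q ∈ X ∨ a * r ∈ X ∨ a * (q * r) ∈ X := by
  have hn : (X.subgroupOf Q).Normal := by
    refine ⟨fun n hn g => ?_⟩
    have e : g * n * g⁻¹ = n := Subtype.ext (by
      change (g : G) * n * (g : G)⁻¹ = n
      rw [hQ.comm _ g.2 _ n.2, mul_inv_cancel_right])
    rw [e]; exact hn
  have hfin : Finite Q := Nat.finite_of_card_ne_zero (by rw [hQ.card]; norm_num)
  have hcard : Nat.card (⊤ : Subgroup (Q ⧸ X.subgroupOf Q)) = 4 := by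
    rw [Subgroup.card_top]
    have h1 := (X.subgroupOf Q).card_mul_index
    rw [Nat.card_congr (Subgroup.subgroupOfEquivOfLe hX).toEquiv, hXc, hQ.card] at h1
    have h2 : (X.subgroupOf Q).index = Nat.card (Q ⧸ X.subgroupOf Q) := rfl
    omega
  have hm : ∀ g : Q, (QuotientGroup.mk' (X.subgroupOf Q) g = 1) ↔ (g : G) ∈ X := by
    intro g
    rw [QuotientGroup.mk'_apply, QuotientGroup.eq_one_iff, Subgroup.mem_subgroupOf]
  have hsq : ∀ x ∈ (⊤ : Subgroup (Q ⧸ X.subgroupOf Q)), x * x = 1 := by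
    intro x _
    obtain ⟨g, rfl⟩ := QuotientGroup.mk'_surjective _ x
    rw [← map_mul, hm]
    change (g : G) * g ∈ X
    rw [hQ.sq _ g.2]
    exact one_mem _
  have hsub : ∀ g k : Q, QuotientGroup.mk' (X.subgroupOf Q) g = QuotientGroup.mk' (X.subgroupOf Q) k ↔
      (g : G) * k ∈ X := by
    intro g k
    rw [← mul_inv_eq_one, ← map_inv, ← map_mul, hm]
    change (g : G) * (k : G)⁻¹ ∈ X ↔ _
    rw [BT.EA.inv hQ k.2]
  have key := BT.four hcard hsq (x := QuotientGroup.mk' (X.subgroupOf Q) ⟨q, hq⟩)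
    (y := QuotientGroup.mk' (X.subgroupOf Q) ⟨r, hr⟩) (Subgroup.mem_top _) (Subgroup.mem_top _)
    (fun e => hqX ((hm _).1 e)) (fun e => hrX ((hm _).1 e)) (fun e => hqr ((hsub _ _).1 e))
  intro a ha
  rcases key (QuotientGroup.mk' (X.subgroupOf Q) ⟨a, ha⟩) (Subgroup.mem_top _) with e | e | e | e
  · exact Or.inl ((hm _).1 e)
  · exact Or.inr (Or.inl ((hsub _ _).1 e))
  · exact Or.inr (Or.inr (Or.inl ((hsub _ _).1 e)))
  · rw [← map_mul] at e
    exact Or.inr (Or.inr (Or.inr ((hsub _ _).1 e)))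

theorem TypeThree.half [Finite G] (h : TypeThree Q₁ Q₂ τ s z) {a : G} (ha : a ∈ Q₁) (hm : a * (s * a * s) ∈ Q₂) :
    ∃ p ∈ Q₁, ∃ x ∈ Q₁ ⊓ Q₂, a = p * (s * p * s) * x := by
  obtain ⟨q, hq, hq2⟩ := h.act
  have hE := h.six.pair.ea₁
  obtain ⟨r, hr⟩ : ∃ r, r = s * q * s := ⟨_, rfl⟩
  have hrQ : r ∈ Q₁ := by rw [hr]; exact h.mem₁ hq
  have hsr : s * r * s = q := by rw [hr]; exact BT.conj_conj h.s2 q
  rw [← hr, BT.EA.inv hE hq] at hq2
  have hrq : r * q ∉ Q₁ ⊓ Q₂ := fun e => hq2 e.2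
  have hqr : q * r ∉ Q₁ ⊓ Q₂ := by rw [hE.comm q hq r hrQ]; exact hrq
  have hqX : q ∉ Q₁ ⊓ Q₂ := by
    intro e
    apply hrq
    refine mul_mem ?_ e
    rw [hr]; exact h.memX e
  have hrX : r ∉ Q₁ ⊓ Q₂ := by
    intro e
    apply hqX
    rw [← hsr]; exact h.memX e
  -- conjugation by `s` modulo `X`
  have hmod : ∀ y ∈ Q₁, a * y ∈ Q₁ ⊓ Q₂ → y * (s * y * s) ∈ Q₁ ⊓ Q₂ := by
    intro y hy hay
    have h1 := h.memX hay
    rw [BT.conj_mul h.s2] at h1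
    have h2 : a * (s * a * s) ∈ Q₁ ⊓ Q₂ := ⟨mul_mem ha (h.mem₁ ha), hm⟩
    have h3 := mul_mem h2 (mul_mem hay h1)
    have hsa := h.mem₁ ha
    have hsy := h.mem₁ hy
    have e : a * (s * a * s) * (a * y * ((s * a * s) * (s * y * s))) = y * (s * y * s) := by
      calc a * (s * a * s) * (a * y * ((s * a * s) * (s * y * s))) =
          a * ((s * a * s) * (a * y)) * (s * a * s) * (s * y * s) := by simp only [mul_assoc]
        _ = a * ((a * y) * (s * a * s)) * (s * a * s) * (s * y * s) := by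
            rw [hE.comm _ hsa _ (mul_mem ha hy)]
        _ = (a * a) * y * ((s * a * s) * (s * a * s)) * (s * y * s) := by simp only [mul_assoc]
        _ = y * (s * y * s) := by rw [hE.sq a ha, hE.sq _ hsa, one_mul, mul_one]
    rwa [e] at h3
  rcases BT.four' inf_le_left hE h.six.pair.inf hq hrQ hqX hrX hqr a ha with h1 | h1 | h1 | h1
  · exact ⟨1, one_mem _, a, h1, by rw [mul_one, h.s2, mul_one, one_mul]⟩
  · exact absurd (by rw [hr]; exact hmod q hq h1) hqr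
  · exact absurd (by have := hmod r hrQ h1; rwa [hsr] at this) hrq
  · refine ⟨q, hq, a * (q * r), h1, ?_⟩
    rw [← hr, hE.comm _ (mul_mem hq hrQ) _ (mul_mem ha (mul_mem hq hrQ)), mul_assoc,
      hE.sq _ (mul_mem hq hrQ), mul_one]

theorem BT.exists_X [Finite G] (h : Six Q₁ Q₂ τ) {w : G} (w2 : w * w = 1) (hinv : w * τ * w = τ⁻¹)
    (hm : ∀ x ∈ Q₁ ⊓ Q₂, w * x * w ∈ Q₁ ⊓ Q₂) (hz : z ∈ Q₁ ⊓ Q₂) (hz1 : z ≠ 1) (hwz : w * z = z * w) :
    ∃ x ∈ Q₁ ⊓ Q₂, w * x * w * x = z := by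
  have hX := BT.X_of_inv h w2 hinv hz hz1 hwz
  have hz' := BT.conj_mem_of_Nm h.nX hz
  have hmm := hm _ hz'
  refine ⟨_, hz', (hX _ (mul_mem hmm hz') ?_).resolve_left ?_⟩
  · rw [BT.comm_iff w2, BT.conj_mul w2, BT.conj_conj w2]
    exact h.eaX.comm _ hz' _ hmm
  · intro e
    have h1 : w * (τ * z * τ⁻¹) = (τ * z * τ⁻¹) * w := by
      rw [BT.comm_iff w2]
      rw [eq_inv_of_mul_eq_one_left e, BT.EA.inv h.eaX hz']
    rcases hX _ hz' h1 with h2 | h2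
    · apply hz1
      rw [mul_inv_eq_one] at h2
      exact mul_eq_left.1 h2
    · apply hz1
      apply h.fpf z (BT.inf_le_sup' hz)
      exact mul_inv_eq_iff_eq_mul.1 h2

theorem TypeThree.conj [Finite G] (h : TypeThree Q₁ Q₂ τ s z) :
    ∀ t ∈ Q₁ ⊔ Q₂, (t * s) * (t * s) = 1 → ∃ y ∈ Q₁ ⊔ Q₂, y * s * y⁻¹ = t * s := by
  intro t ht hf
  have hE₁ := h.six.pair.ea₁
  have hE₂ := h.six.pair.ea₂
  obtain ⟨a, ha, b, hb, rfl⟩ := h.six.pair.decomp ht
  have hA := h.mem₁ ha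
  have hB := h.symm.mem₁ hb
  have h0 : a * b * ((s * a * s) * (s * b * s)) = 1 := by
    rw [← BT.conj_mul h.s2, ← hf]
    simp only [mul_assoc]
  -- `a A ∈ Q₂`, `b B ∈ Q₁`
  have hc := h.six.pair.comm_mem (Subgroup.mem_sup_right (S := Q₁) hb) (Subgroup.mem_sup_left (T := Q₂) hA)
  obtain ⟨c, hce⟩ : ∃ c, c = b * (s * a * s) * b⁻¹ * (s * a * s)⁻¹ := ⟨_, rfl⟩
  rw [← hce] at hc
  have e1 : b * (s * a * s) = c * ((s * a * s) * b) := by rw [hce]; group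
  have e2 : c * (a * (s * a * s)) * (b * (s * b * s)) = 1 := by
    calc c * (a * (s * a * s)) * (b * (s * b * s)) = (c * a) * ((s * a * s) * b) * (s * b * s) := by
          simp only [mul_assoc]
      _ = a * (c * ((s * a * s) * b)) * (s * b * s) := by rw [hE₁.comm c hc.1 a ha]; simp only [mul_assoc]
      _ = a * b * ((s * a * s) * (s * b * s)) := by rw [← e1]; simp only [mul_assoc]
      _ = 1 := h0
  have haA : a * (s * a * s) ∈ Q₂ := by
    have h1 : c * (a * (s * a * s)) = (b * (s * b * s))⁻¹ := eq_inv_of_mul_eq_one_left e2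
    have h2 : c * (a * (s * a * s)) ∈ Q₂ := by rw [h1]; exact inv_mem (mul_mem hb hB)
    exact (Subgroup.mul_mem_cancel_left _ hc.2).1 h2
  have hbB : b * (s * b * s) ∈ Q₁ := by
    have h1 : b * (s * b * s) = (c * (a * (s * a * s)))⁻¹ := eq_inv_of_mul_eq_one_right e2
    rw [h1]
    exact inv_mem (mul_mem hc.1 (mul_mem ha hA))
  obtain ⟨p, hp, x1, hx1, ea⟩ := h.half ha haA
  obtain ⟨r, hr, x2, hx2, eb⟩ := h.symm.half hb hbB
  have hx2' : x2 ∈ Q₁ ⊓ Q₂ := ⟨hx2.2, hx2.1⟩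
  have hP := h.mem₁ hp
  have hR := h.symm.mem₁ hr
  obtain ⟨P, hPe⟩ : ∃ P, P = s * p * s := ⟨_, rfl⟩
  obtain ⟨R, hRe⟩ : ∃ R, R = s * r * s := ⟨_, rfl⟩
  rw [← hPe] at hP ea
  rw [← hRe] at hR eb
  have hPT : P ∈ Q₁ ⊔ Q₂ := Subgroup.mem_sup_left hP
  have hpT : p ∈ Q₁ ⊔ Q₂ := Subgroup.mem_sup_left hp
  have hrT : r ∈ Q₁ ⊔ Q₂ := Subgroup.mem_sup_right hr
  have hRT : R ∈ Q₁ ⊔ Q₂ := Subgroup.mem_sup_right hR
  -- the commutator of `P` and `rR`
  obtain ⟨d, hd⟩ : ∃ d, d = P * (r * R) * P⁻¹ * (r * R)⁻¹ := ⟨_, rfl⟩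
  have hdX : d ∈ Q₁ ⊓ Q₂ := by rw [hd]; exact h.six.pair.comm_mem hPT (mul_mem hrT hRT)
  have ePd : P * (r * R) = d * ((r * R) * P) := by rw [hd]; group
  obtain ⟨x3, hx3e⟩ : ∃ x3, x3 = x1 * x2 * d := ⟨_, rfl⟩
  have hx3 : x3 ∈ Q₁ ⊓ Q₂ := by rw [hx3e]; exact mul_mem (mul_mem hx1 hx2') hdX
  -- `(pr)⁻¹ (ts) (pr) = x3 s`
  have hpp := hE₁.sq p hp
  have hrr := hE₂.sq r hr
  have hPP := hE₁.sq P hP
  have hRR := hE₂.sq R hR
  have key : a * b * s = (p * r) * (x3 * s) * (p * r)⁻¹ := by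
    have c1 := h.six.pair.comm_inf hx1 (mul_mem hrT hRT)
    have c2 := h.six.pair.comm_inf (mul_mem hx1 hx2') hPT
    have c3 := h.six.pair.comm_inf hx3 hrT
    have eS : s * r = R * s := by
      rw [hRe]; calc s * r = s * r * (s * s) := by rw [h.s2, mul_one]
        _ = _ := by simp only [mul_assoc]
    have eS' : s * p = P * s := by
      rw [hPe]; calc s * p = s * p * (s * s) := by rw [h.s2, mul_one]
        _ = _ := by simp only [mul_assoc]
    rw [eq_mul_inv_iff_mul_eq]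
    have c4 := h.six.pair.comm_inf hdX (mul_mem (mul_mem hrT hRT) hPT)
    have hx12 : x1 * x2 * d = d * (x1 * x2) := h.six.eaX.comm _ (mul_mem hx1 hx2') _ hdX
    calc a * b * s * (p * r) = (p * P * x1) * (r * R * x2) * (s * p) * r := by rw [ea, eb]; simp only [mul_assoc]
      _ = p * P * (x1 * (r * R)) * x2 * P * (s * r) := by rw [eS']; simp only [mul_assoc]
      _ = p * P * (r * R) * ((x1 * x2) * P) * (s * r) := by rw [c1]; simp only [mul_assoc]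
      _ = p * (P * (r * R)) * P * (x1 * x2) * (R * s) := by rw [c2, eS]; simp only [mul_assoc]
      _ = p * d * (r * R) * (P * P) * (x1 * x2) * (R * s) := by rw [ePd]; simp only [mul_assoc]
      _ = p * d * (r * R) * (x1 * x2) * (R * s) := by rw [hPP, mul_one]
      _ = p * d * r * (R * (x1 * x2)) * (R * s) := by simp only [mul_assoc]
      _ = p * d * r * ((x1 * x2) * R) * (R * s) := by rw [h.six.pair.comm_inf (mul_mem hx1 hx2') hRT]
      _ = p * (d * r) * (x1 * x2) * (R * R) * s := by simp only [mul_assoc]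
      _ = p * r * (d * (x1 * x2)) * s := by
          rw [hRR, h.six.pair.comm_inf hdX hrT, mul_one]; simp only [mul_assoc]
      _ = p * r * (x3 * s) := by rw [← hx12, ← hx3e]; simp only [mul_assoc]
  -- `x3 ∈ {1, z}`
  have hx3s : s * x3 = x3 * s := by
    have h1 : (x3 * s) * (x3 * s) = 1 := by
      have h2 : a * b * s * (a * b * s) = (p * r) * ((x3 * s) * (x3 * s)) * (p * r)⁻¹ := by rw [key]; group
      rw [hf] at h2
      have h3 := eq_mul_inv_iff_mul_eq.1 h2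
      rw [one_mul] at h3
      exact mul_eq_left.1 h3.symm
    rw [BT.comm_iff h.s2]
    have h2 : x3 * (s * x3 * s) = 1 := by rw [← h1]; simp only [mul_assoc]
    rw [eq_inv_of_mul_eq_one_right h2, BT.EA.inv h.six.eaX hx3]
  obtain ⟨w, hw, hws⟩ : ∃ w ∈ Q₁ ⊔ Q₂, w * s * w⁻¹ = x3 * s := by
    rcases h.X x3 hx3 hx3s with e | e
    · exact ⟨1, one_mem _, by rw [e]; group⟩
    · obtain ⟨x0, hx0, hx0z⟩ := BT.exists_X h.six h.s2 h.inv (fun x hx => h.memX hx) ⟨h.z₁, h.z₂⟩ h.zne h.sz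
      refine ⟨x0, BT.inf_le_sup' hx0, ?_⟩
      rw [BT.EA.inv h.six.eaX hx0, e, ← hx0z]
      have e3 : s * x0 * s * x0 = x0 * (s * x0 * s) := h.six.eaX.comm _ (h.memX hx0) _ hx0
      rw [e3]
      calc x0 * s * x0 = x0 * s * x0 * (s * s) := by rw [h.s2, mul_one]
        _ = _ := by simp only [mul_assoc]
  refine ⟨p * r * w, mul_mem (mul_mem hpT hrT) hw, ?_⟩
  rw [key, ← hws]
  group

end three

section J

variable {Q₁ Q₂ : Subgroup G} {τ : G}

theorem BT.comm_of_sq {V : Subgroup G} (h1 : ∀ x ∈ V, x * x = 1) {x y : G} (hx : x ∈ V) (hy : y ∈ V) :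
    x * y = y * x := by
  have h2 := h1 _ (mul_mem hx hy)
  rw [← BT.inv_of_sq h2, mul_inv_rev, BT.inv_of_sq (h1 x hx), BT.inv_of_sq (h1 y hy)]

theorem BT.J_in [Finite G] (h : Six Q₁ Q₂ τ) {V : Subgroup G} (hV : V ≤ Q₁ ⊔ Q₂) (hc : Nat.card V = 16)
    (h1 : ∀ x ∈ V, x * x = 1) : V = Q₁ ∨ V = Q₂ := by
  rcases h.pair.elab hV h1 with h2 | h2
  · exact Or.inl (Subgroup.eq_of_le_of_card_ge h2 (by rw [hc, h.pair.ea₁.card]))
  · exact Or.inr (Subgroup.eq_of_le_of_card_ge h2 (by rw [hc, h.pair.ea₂.card]))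

theorem BT.dec {T : Subgroup G} {w : G} (w2 : w * w = 1) (hwT : w ∈ Nm T) {x : G}
    (hx : x ∈ T ⊔ Subgroup.zpowers w) : x ∈ T ∨ x * w ∈ T := by
  have h1 : Subgroup.zpowers w ≤ Nm T := Subgroup.zpowers_le.2 hwT
  rw [sup_comm, mul_mem_sup_iff h1] at hx
  obtain ⟨_, ⟨i, rfl⟩, t, ht, rfl⟩ := hx
  have h2 : (fun x => w ^ x) i = 1 ∨ (fun x => w ^ x) i = w := by
    rcases Int.even_or_odd i with ⟨j, hj⟩ | ⟨j, hj⟩
    · left
      change w ^ i = 1
      rw [hj, zpow_add, ← (Commute.refl w).mul_zpow, w2, one_zpow]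
    · right
      change w ^ i = w
      rw [hj, zpow_add, zpow_mul, zpow_one, show (2 : ℤ) = ((2 : ℕ) : ℤ) from rfl, zpow_natCast, pow_two, w2,
        one_zpow, one_mul]
  rcases h2 with h2 | h2
  · left; rw [h2, one_mul]; exact ht
  · right
    rw [h2]
    have h3 := BT.conj_mem_of_Nm hwT ht
    rwa [BT.inv_of_sq w2] at h3

theorem BT.J_step [Finite G] (h : Six Q₁ Q₂ τ) {w : G} (w2 : w * w = 1) (hwT : w ∈ Nm (Q₁ ⊔ Q₂))
    (hconj : ∀ t ∈ Q₁ ⊔ Q₂, (t * w) * (t * w) = 1 → ∃ y ∈ Q₁ ⊔ Q₂, y * w * y⁻¹ = t * w) {V : Subgroup G}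
    (hV : V ≤ Q₁ ⊔ Q₂ ⊔ Subgroup.zpowers w) (hc : Nat.card V = 16) (h1 : ∀ x ∈ V, x * x = 1) :
    (V = Q₁ ∨ V = Q₂) ∨ ∃ y ∈ Q₁ ⊔ Q₂, Nat.card (cj y⁻¹ ((Q₁ ⊔ Q₂) ⊓ V)) = 8 ∧
      cj y⁻¹ ((Q₁ ⊔ Q₂) ⊓ V) ≤ (Q₁ ⊔ Q₂) ⊓ Subgroup.centralizer {w} := by
  by_cases hVT : V ≤ Q₁ ⊔ Q₂
  · exact Or.inl (BT.J_in h hVT hc h1)
  right
  obtain ⟨x, hx, hxT⟩ := SetLike.not_le_iff_exists.1 hVT
  have hd := fun a (ha : a ∈ V) => BT.dec w2 hwT (hV ha)
  have hxw := (hd x hx).resolve_left hxT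
  have ex : (x * w) * w = x := by rw [mul_assoc, w2, mul_one]
  obtain ⟨y, hy, hyw⟩ := hconj (x * w) hxw (by rw [ex]; exact h1 x hx)
  rw [ex] at hyw
  refine ⟨y, hy, ?_, ?_⟩
  · rw [card_cj]
    have h2 : (Q₁ ⊔ Q₂).relIndex V = 2 := by
      rw [Subgroup.relIndex_eq_two_iff]
      refine ⟨x, hx, fun b hb => ?_⟩
      by_cases hbT : b ∈ Q₁ ⊔ Q₂
      · right
        exact ⟨hbT, fun e => hxT ((Subgroup.mul_mem_cancel_left _ hbT).1 e)⟩
      · left
        refine ⟨?_, hbT⟩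
        have hbw := (hd b hb).resolve_left hbT
        have h3 := mul_mem hbw (BT.conj_mem_of_Nm hwT hxw)
        rw [BT.inv_of_sq w2] at h3
        have e : b * w * (w * (x * w) * w) = b * x := by
          calc b * w * (w * (x * w) * w) = b * (w * w) * x * (w * w) := by simp only [mul_assoc]
            _ = b * x := by rw [w2, mul_one, mul_one]
        rwa [e] at h3
    have h3 := card_inf_mul_relIndex V (Q₁ ⊔ Q₂)
    rw [h2, hc] at h3
    omega
  · intro t ht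
    rw [mem_cj, inv_inv] at ht
    have hyi := inv_mem hy
    refine ⟨?_, ?_⟩
    · have h4 := mul_mem (mul_mem hyi ht.1) hy
      have e : y⁻¹ * (y * t * y⁻¹) * y = t := by group
      rwa [e] at h4
    · have h4 := BT.comm_of_sq h1 ht.2 hx
      rw [← hyw] at h4
      refine Subgroup.mem_centralizer_singleton_iff.2 ?_
      have h5 := congrArg (fun g => y⁻¹ * g * y) h4
      have e1 : y⁻¹ * (y * t * y⁻¹ * (y * w * y⁻¹)) * y = t * w := by group
      have e2 : y⁻¹ * (y * w * y⁻¹ * (y * t * y⁻¹)) * y = w * t := by group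
      simp only [e1, e2] at h5
      exact h5

theorem TypeOne.nT {u : G} (h : TypeOne Q₁ Q₂ τ u) : u ∈ Nm (Q₁ ⊔ Q₂) := by
  rw [mem_Nm, cj_sup, h.swap, h.swap', sup_comm]

theorem TypeTwo.nT {v z : G} (h : TypeTwo Q₁ Q₂ τ v z) : v ∈ Nm (Q₁ ⊔ Q₂) := by
  rw [mem_Nm, cj_sup, h.swap, h.swap', sup_comm]

theorem TypeThree.nT {s z : G} (h : TypeThree Q₁ Q₂ τ s z) : s ∈ Nm (Q₁ ⊔ Q₂) := by
  rw [mem_Nm, cj_sup, cj_of_mem_Nm h.n₁, cj_of_mem_Nm h.n₂]

/-- the only elementary abelian subgroups of order 16 -/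
theorem TypeOne.J [Finite G] {u : G} (h : TypeOne Q₁ Q₂ τ u) {V : Subgroup G}
    (hV : V ≤ Q₁ ⊔ Q₂ ⊔ Subgroup.zpowers u) (hc : Nat.card V = 16) (h1 : ∀ x ∈ V, x * x = 1) : V = Q₁ ∨ V = Q₂ := by
  rcases BT.J_step h.six h.u2 h.nT h.conj hV hc h1 with h2 | ⟨y, -, h2, h3⟩
  · exact h2
  · exfalso
    have h4 : (Q₁ ⊔ Q₂) ⊓ Subgroup.centralizer {u} ≤ Q₁ ⊓ Q₂ := fun t ht =>
      h.cent t ht.1 (Subgroup.mem_centralizer_singleton_iff.1 ht.2).symm
    have h5 := Subgroup.card_le_of_le (h3.trans h4)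
    rw [h2, h.six.pair.inf] at h5
    omega

theorem TypeTwo.J [Finite G] {v z : G} (h : TypeTwo Q₁ Q₂ τ v z) {V : Subgroup G}
    (hV : V ≤ Q₁ ⊔ Q₂ ⊔ Subgroup.zpowers v) (hc : Nat.card V = 16) (h1 : ∀ x ∈ V, x * x = 1) : V = Q₁ ∨ V = Q₂ := by
  rcases BT.J_step h.six h.v2 h.nT h.conj hV hc h1 with h2 | ⟨y, -, h2, h3⟩
  · exact h2
  · exfalso
    have h4 := Subgroup.eq_of_le_of_card_ge h3 (by rw [h2, h.card])
    have h5 : (Q₁ ⊔ Q₂) ⊓ Subgroup.centralizer {v} ≤ Q₁ ⊓ Q₂ := by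
      intro t ht
      by_contra htX
      have h6 := h.sq t ht.1 (Subgroup.mem_centralizer_singleton_iff.1 ht.2).symm htX
      rw [← h4, mem_cj, inv_inv] at ht
      have h7 := h1 _ ht.2
      have h8 : t * t = 1 := by
        have e : y * t * y⁻¹ * (y * t * y⁻¹) = y * (t * t) * y⁻¹ := by group
        rw [e] at h7
        have h9 := mul_inv_eq_one.1 h7
        exact mul_eq_left.1 h9
      exact h.zne (by rw [← h6, h8])
    have h6 := Subgroup.card_le_of_le h5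
    rw [h.card, h.six.pair.inf] at h6
    omega

theorem TypeThree.J [Finite G] {s z : G} (h : TypeThree Q₁ Q₂ τ s z) {V : Subgroup G}
    (hV : V ≤ Q₁ ⊔ Q₂ ⊔ Subgroup.zpowers s) (hc : Nat.card V = 16) (h1 : ∀ x ∈ V, x * x = 1) : V = Q₁ ∨ V = Q₂ := by
  rcases BT.J_step h.six h.s2 h.nT h.conj hV hc h1 with h2 | ⟨y, -, h2, h3⟩
  · exact h2
  · exfalso
    have h4 := Subgroup.eq_of_le_of_card_ge h3 (by rw [h2, h.card])
    have key : ∀ {P₁ P₂ : Subgroup G}, TypeThree P₁ P₂ τ s z → ∃ a ∈ P₁ ⊓ Subgroup.centralizer {s}, a ∉ P₂ := by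
      intro P₁ P₂ h'
      by_contra hcon
      push Not at hcon
      have h5 : P₁ ⊓ Subgroup.centralizer {s} ≤ Subgroup.zpowers z := by
        intro t ht
        rcases h'.X t ⟨ht.1, hcon t ht⟩ (Subgroup.mem_centralizer_singleton_iff.1 ht.2).symm with rfl | rfl
        · exact one_mem _
        · exact Subgroup.mem_zpowers _
      have h6 := Subgroup.card_le_of_le h5
      rw [h'.cardX, Nat.card_zpowers,
        orderOf_eq_prime (by rw [pow_two]; exact h'.six.eaX.sq z ⟨h'.z₁, h'.z₂⟩ : z ^ 2 = 1) h'.zne] at h6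
      omega
    obtain ⟨a, ha, ha2⟩ := key h
    obtain ⟨b, hb, hb2⟩ := key h.symm
    have hcomm : ∀ t ∈ (Q₁ ⊔ Q₂) ⊓ Subgroup.centralizer {s}, ∀ t' ∈ (Q₁ ⊔ Q₂) ⊓ Subgroup.centralizer {s},
        t * t' = t' * t := by
      intro t ht t' ht'
      rw [← h4, mem_cj, inv_inv] at ht ht'
      have h7 := BT.comm_of_sq h1 ht.2 ht'.2
      have h5 := congrArg (fun g => y⁻¹ * g * y) h7
      have e1 : y⁻¹ * (y * t * y⁻¹ * (y * t' * y⁻¹)) * y = t * t' := by group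
      have e2 : y⁻¹ * (y * t' * y⁻¹ * (y * t * y⁻¹)) * y = t' * t := by group
      simp only [e1, e2] at h5
      exact h5
    rcases h.six.pair.nondeg a ha.1 b hb.1 (hcomm a ⟨Subgroup.mem_sup_left ha.1, ha.2⟩ b
      ⟨Subgroup.mem_sup_right hb.1, hb.2⟩) with h5 | h5
    · exact ha2 h5
    · exact hb2 h5

theorem J1920 [Finite G] {s u v z : G} (h₁ : TypeOne Q₁ Q₂ τ u) (h₂ : TypeTwo Q₁ Q₂ τ v z)
    (h₃ : TypeThree Q₁ Q₂ τ s z) (hsu : s * u = u * s) (hv : v = s * u) {V : Subgroup G}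
    (hV : V ≤ Q₁ ⊔ Q₂ ⊔ Subgroup.zpowers s ⊔ Subgroup.zpowers u) (hc : Nat.card V = 16) (h1 : ∀ x ∈ V, x * x = 1) :
    V = Q₁ ∨ V = Q₂ := by
  have hsT := h₃.nT
  have huT := h₁.nT
  have hTs : u ∈ Nm (Q₁ ⊔ Q₂ ⊔ Subgroup.zpowers s) := by
    have e : cj u (Subgroup.zpowers s) = Subgroup.zpowers s := by
      rw [cj_eq_map, MonoidHom.map_zpowers]
      congr 1
      change u * s * u⁻¹ = s
      rw [← hsu, mul_inv_cancel_right]
    rw [mem_Nm, cj_sup, cj_of_mem_Nm huT, e]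
  have hd : ∀ x ∈ V, (x ∈ Q₁ ⊔ Q₂ ∨ x * s ∈ Q₁ ⊔ Q₂) ∨ (x * u ∈ Q₁ ⊔ Q₂ ∨ x * v ∈ Q₁ ⊔ Q₂) := by
    intro x hx
    rcases BT.dec h₁.u2 hTs (hV hx) with h2 | h2
    · exact Or.inl (BT.dec h₃.s2 hsT h2)
    · right
      rcases BT.dec h₃.s2 hsT h2 with h3 | h3
      · exact Or.inl h3
      · right
        rw [hv, hsu, ← mul_assoc]
        exact h3
  have hmem : ∀ {w x : G}, w * w = 1 → x * w ∈ Q₁ ⊔ Q₂ → x ∈ Q₁ ⊔ Q₂ ⊔ Subgroup.zpowers w := by
    intro w x w2 h2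
    have e : x = (x * w) * w := by rw [mul_assoc, w2, mul_one]
    rw [e]
    exact mul_mem (Subgroup.mem_sup_left h2) (Subgroup.mem_sup_right (Subgroup.mem_zpowers w))
  by_cases hA : ∃ x ∈ V, x * u ∈ Q₁ ⊔ Q₂
  · by_cases hB : V ≤ Q₁ ⊔ Q₂ ⊔ Subgroup.zpowers u
    · exact h₁.J hB hc h1
    exfalso
    obtain ⟨x, hx, hxu⟩ := hA
    obtain ⟨x', hx', hxB⟩ := SetLike.not_le_iff_exists.1 hB
    have ex : (x * u) * u = x := by rw [mul_assoc, h₁.u2, mul_one]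
    obtain ⟨y, hy, hyw⟩ := h₁.conj (x * u) hxu (by rw [ex]; exact h1 x hx)
    rw [ex] at hyw
    -- `T ∩ V ≤ X`
    have hTV : (Q₁ ⊔ Q₂) ⊓ V ≤ Q₁ ⊓ Q₂ := by
      rintro t ⟨ht, htV⟩
      have h4 := BT.comm_of_sq h1 htV hx
      rw [← hyw] at h4
      have h5 := congrArg (fun g => y⁻¹ * g * y) h4
      have e1 : y⁻¹ * (t * (y * u * y⁻¹)) * y = (y⁻¹ * t * y) * u := by group
      have e2 : y⁻¹ * (y * u * y⁻¹ * t) * y = u * (y⁻¹ * t * y) := by group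
      simp only [e1, e2] at h5
      have htT : t ∈ Q₁ ⊔ Q₂ := ht
      have h6 := h₁.cent _ (mul_mem (mul_mem (inv_mem hy) htT) hy) h5.symm
      have h7 := h₁.six.pair.comm_inf h6 hy
      have e3 : t = y⁻¹ * t * y := by
        have h8 : y * (y⁻¹ * t * y) * y⁻¹ = y⁻¹ * t * y := by rw [← h7, mul_inv_cancel_right]
        calc t = y * (y⁻¹ * t * y) * y⁻¹ := by group
          _ = y⁻¹ * t * y := h8
      rw [e3]; exact h6
    have hidx : (Q₁ ⊔ Q₂).relIndex V ≤ 4 := by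
      have k1 : (Q₁ ⊔ Q₂).relIndex (Q₁ ⊔ Q₂ ⊔ Subgroup.zpowers s) ≤ 2 := by
        rw [sup_comm (Q₁ ⊔ Q₂), relIndex_sup_of_left (Subgroup.zpowers_le.2 hsT)]
        have := Nat.card_zpowers s ▸ (orderOf_dvd_of_pow_eq_one (by rw [pow_two]; exact h₃.s2 : s ^ 2 = 1))
        exact (Nat.le_of_dvd Nat.card_pos (Subgroup.relIndex_dvd_card _ _)).trans (Nat.le_of_dvd (by norm_num) this)
      have k2 : (Q₁ ⊔ Q₂ ⊔ Subgroup.zpowers s).relIndex (Q₁ ⊔ Q₂ ⊔ Subgroup.zpowers s ⊔ Subgroup.zpowers u) ≤ 2 := by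
        rw [sup_comm (Q₁ ⊔ Q₂ ⊔ Subgroup.zpowers s), relIndex_sup_of_left (Subgroup.zpowers_le.2 hTs)]
        have := Nat.card_zpowers u ▸ (orderOf_dvd_of_pow_eq_one (by rw [pow_two]; exact h₁.u2 : u ^ 2 = 1))
        exact (Nat.le_of_dvd Nat.card_pos (Subgroup.relIndex_dvd_card _ _)).trans (Nat.le_of_dvd (by norm_num) this)
      have k3 := Subgroup.relIndex_mul_relIndex (Q₁ ⊔ Q₂) (Q₁ ⊔ Q₂ ⊔ Subgroup.zpowers s)
        (Q₁ ⊔ Q₂ ⊔ Subgroup.zpowers s ⊔ Subgroup.zpowers u) le_sup_left le_sup_left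
      refine (Subgroup.relIndex_le_of_le_right hV Subgroup.FiniteIndex.index_ne_zero).trans ?_
      rw [← k3]
      exact Nat.mul_le_mul k1 k2
    have h3 := card_inf_mul_relIndex V (Q₁ ⊔ Q₂)
    rw [hc] at h3
    have h4 : 4 ≤ Nat.card ↥((Q₁ ⊔ Q₂) ⊓ V) := by
      by_contra hcon
      push Not at hcon
      have := Nat.mul_le_mul (Nat.le_of_lt_succ hcon) hidx
      omega
    have h5 := Subgroup.eq_of_le_of_card_ge hTV (by rw [h₁.six.pair.inf]; exact h4)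
    -- `x'` centralises `X`
    have hx'X : ∀ t ∈ Q₁ ⊓ Q₂, x' * t = t * x' := by
      intro t ht
      rw [← h5] at ht
      exact BT.comm_of_sq h1 hx' ht.2
    have hfin : ∀ w : G, w * w = 1 → x' * w ∈ Q₁ ⊔ Q₂ → (∀ t ∈ Q₁ ⊓ Q₂, w * t = t * w → t = 1 ∨ t = z) → False := by
      intro w w2 hxw hw
      have hall : ∀ t ∈ Q₁ ⊓ Q₂, w * t = t * w := by
        intro t ht
        have k1 := h₁.six.pair.comm_inf ht hxw
        have k2 := hx'X t ht
        have k3 : x' * (w * t) = x' * (t * w) := by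
          calc x' * (w * t) = (x' * w) * t := by rw [mul_assoc]
            _ = t * (x' * w) := k1.symm
            _ = (t * x') * w := by rw [mul_assoc]
            _ = x' * (t * w) := by rw [← k2, mul_assoc]
        exact mul_left_cancel k3
      have k : Q₁ ⊓ Q₂ ≤ Subgroup.zpowers z := by
        intro t ht
        rcases hw t ht (hall t ht) with rfl | rfl
        · exact one_mem _
        · exact Subgroup.mem_zpowers _
      have k2 := Subgroup.card_le_of_le k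
      rw [h₁.six.pair.inf, Nat.card_zpowers,
        orderOf_eq_prime (by rw [pow_two]; exact h₃.six.eaX.sq z ⟨h₃.z₁, h₃.z₂⟩ : z ^ 2 = 1) h₃.zne] at k2
      omega
    rcases hd x' hx' with (h6 | h6) | (h6 | h6)
    · exact hxB (Subgroup.mem_sup_left h6)
    · exact hfin s h₃.s2 h6 h₃.X
    · exact hxB (hmem h₁.u2 h6)
    · exact hfin v h₂.v2 h6 h₂.X
  · -- no element in `Tu`
    push Not at hA
    by_cases hB : ∃ x ∈ V, x ∉ Q₁ ⊔ Q₂ ∧ x * v ∈ Q₁ ⊔ Q₂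
    · obtain ⟨x, hx, hxT, hxv⟩ := hB
      apply h₂.J _ hc h1
      intro x' hx'
      rcases hd x' hx' with (h6 | h6) | (h6 | h6)
      · exact Subgroup.mem_sup_left h6
      · exfalso
        apply hA _ (mul_mem hx' hx)
        -- `x' x u = (x' s) · s (x v) s`  as `v = s u`
        have h7 := BT.conj_mem_of_Nm hsT hxv
        rw [BT.inv_of_sq h₃.s2] at h7
        have h8 := mul_mem h6 h7
        have e : x' * s * (s * (x * v) * s) = x' * x * u := by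
          have ev : v * s = u := by rw [hv, hsu, mul_assoc, h₃.s2, mul_one]
          calc x' * s * (s * (x * v) * s) = x' * (s * s) * x * (v * s) := by simp only [mul_assoc]
            _ = x' * x * u := by rw [h₃.s2, mul_one, ev]
        rwa [e] at h8
      · exact absurd h6 (hA x' hx')
      · exact hmem h₂.v2 h6
    · push Not at hB
      apply h₃.J _ hc h1
      intro x' hx'
      rcases hd x' hx' with (h6 | h6) | (h6 | h6)
      · exact Subgroup.mem_sup_left h6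
      · exact hmem h₃.s2 h6
      · exact absurd h6 (hA x' hx')
      · by_cases h7 : x' ∈ Q₁ ⊔ Q₂
        · exact Subgroup.mem_sup_left h7
        · exact absurd h6 (hB x' hx' h7)

end J

end Cfsg.Agent.H209.Five
end

-- part: H595/Five/Core
section
/-!
# The core of case 1920 of S3568
-/

set_option autoImplicit false
open Pointwise
namespace Cfsg.Agent.H595.Five
open Cfsg.Agent.H399 Cfsg.Agent.H209.Five
variable {G : Type*} [Group G]

theorem mem_sup_inv {T : Subgroup G} {s : G} (hs : s * s = 1) (hn : s ∈ Nm T) {x : G} :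
    x ∈ T ⊔ Subgroup.zpowers s ↔ x ∈ T ∨ x * s ∈ T := by
  have hz : Subgroup.zpowers s ≤ Nm T := by
    rw [Subgroup.zpowers_le]
    exact hn
  rw [sup_comm, mul_mem_sup_iff hz]
  constructor
  · rintro ⟨y, hy, t, ht, rfl⟩
    obtain ⟨k, rfl⟩ := Subgroup.mem_zpowers_iff.1 hy
    rcases Int.even_or_odd' k with ⟨m, rfl | rfl⟩
    · left
      rw [zpow_mul, zpow_two, hs, one_zpow, one_mul]
      exact ht
    · right
      rw [zpow_add, zpow_mul, zpow_two, hs, one_zpow, one_mul, zpow_one]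
      have h1 := (le_Nm.1 hz) s (Subgroup.mem_zpowers s) t ht
      have h2 : s⁻¹ = s := inv_eq_of_mul_eq_one_left hs
      rwa [h2] at h1
  · have h2 : s⁻¹ = s := inv_eq_of_mul_eq_one_left hs
    rintro (h | h)
    · exact ⟨1, one_mem _, x, h, one_mul x⟩
    · refine ⟨s, Subgroup.mem_zpowers s, s * (x * s) * s⁻¹, le_Nm.1 hz s (Subgroup.mem_zpowers s) _ h, ?_⟩
      have h3 : s * (s * (x * s) * s⁻¹) = (s * s) * x * (s * s⁻¹) := by group
      rw [h3, hs]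
      simp

theorem nm_T_of_swap {Q₁ Q₂ : Subgroup G} {u : G} (h1 : cj u Q₁ = Q₂) (h2 : cj u Q₂ = Q₁) : u ∈ Nm (Q₁ ⊔ Q₂) := by
  rw [mem_Nm, cj_sup, h1, h2, sup_comm]

theorem nm_T_of_nm {Q₁ Q₂ : Subgroup G} {u : G} (h1 : u ∈ Nm Q₁) (h2 : u ∈ Nm Q₂) : u ∈ Nm (Q₁ ⊔ Q₂) := by
  rw [mem_Nm, cj_sup, mem_Nm.1 h1, mem_Nm.1 h2]

theorem card_cent_conj {P : Subgroup G} {y : G} (hy : y ∈ P) (a : G) :
    Nat.card ↥(P ⊓ Cn (y * a * y⁻¹)) = Nat.card ↥(P ⊓ Cn a) := by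
  rw [← card_cj y (P ⊓ Cn a), cj_inf, cj_Cn, cj_of_mem hy]

/-- number of solutions of `t² = 1` in the centralizer of `a` in `P` -/
def Iset (P : Subgroup G) (a : G) : Set G := {t | t ∈ P ∧ t * a = a * t ∧ t * t = 1}

theorem ncard_Iset_le [Finite G] {P : Subgroup G} {a b y : G} (hc : cj y (P ⊓ Cn a) = P ⊓ Cn b) :
    (Iset P a).ncard ≤ (Iset P b).ncard := by
  have h1 : (fun t => y * t * y⁻¹) '' (Iset P a) ⊆ Iset P b := by
    rintro _ ⟨t, ht, rfl⟩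
    have h2 : y * t * y⁻¹ ∈ P ⊓ Cn b := by
      rw [← hc, conj_mem_cj]
      exact ⟨ht.1, mem_Cn.2 ht.2.1⟩
    refine ⟨h2.1, mem_Cn.1 h2.2, ?_⟩
    calc y * t * y⁻¹ * (y * t * y⁻¹) = y * (t * t) * y⁻¹ := by group
      _ = 1 := by rw [ht.2.2]; group
  have h2 := Set.ncard_le_ncard h1 (Set.toFinite _)
  rwa [Set.ncard_image_of_injective _ (fun p q h => by simpa using h)] at h2

section Setup

variable {Q₁ Q₂ : Subgroup G} {τ s u v z : G}

theorem qne [Finite G] (h : QPair Q₁ Q₂ 16 4) : Q₁ ≠ Q₂ := by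
  rintro rfl
  have h1 := h.inf
  rw [inf_idem, h.ea₁.card] at h1
  omega

theorem T_le_nm₁ {n m : ℕ} (h : QPair Q₁ Q₂ n m) : Q₁ ⊔ Q₂ ≤ Nm Q₁ := sup_le (self_le_Nm Q₁) h.nm₁

theorem T_le_nm₂ {n m : ℕ} (h : QPair Q₁ Q₂ n m) : Q₁ ⊔ Q₂ ≤ Nm Q₂ := sup_le h.nm₂ (self_le_Nm Q₂)

theorem swap_not_mem [Finite G] (h : QPair Q₁ Q₂ 16 4) {u : G} (hu : cj u Q₁ = Q₂) : u ∉ Q₁ ⊔ Q₂ := by
  intro hm
  have h1 := mem_Nm.1 (T_le_nm₁ h hm)
  rw [hu] at h1
  exact qne h h1.symm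

theorem card_T [Finite G] (h : QPair Q₁ Q₂ 16 4) : Nat.card ↥(Q₁ ⊔ Q₂) = 64 := by
  have := h.card_sup
  omega

omit [Group G] in
theorem ncard_pair_le' (a b : G) : ({a, b} : Set G).ncard ≤ 2 := by
  have h1 := Set.ncard_insert_le a ({b} : Set G)
  rw [Set.ncard_singleton] at h1
  exact h1

theorem X_not_le [Finite G] (h : QPair Q₁ Q₂ 16 4) (z : G) (hX : ∀ x ∈ Q₁ ⊓ Q₂, x = 1 ∨ x = z) : False := by
  have h1 : ((Q₁ ⊓ Q₂ : Subgroup G) : Set G) ⊆ {1, z} := by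
    intro x hx
    exact hX x hx
  have h2 := Set.ncard_le_ncard h1 (Set.toFinite _)
  have h3 : ((Q₁ ⊓ Q₂ : Subgroup G) : Set G).ncard = 4 := by
    rw [← h.inf]
    rfl
  have h4 := ncard_pair_le' 1 z
  omega

theorem s_not_mem [Finite G] (h₃ : TypeThree Q₁ Q₂ τ s z) : s ∉ Q₁ ⊔ Q₂ := by
  intro hs
  refine X_not_le h₃.six.pair z fun x hx => h₃.X x hx ?_
  exact (h₃.six.pair.comm_inf hx hs).symm

/-- lower bound for the centralizer of `s` -/
theorem le_ncard_s [Finite G] (h₁ : TypeOne Q₁ Q₂ τ u) (h₂ : TypeTwo Q₁ Q₂ τ v z)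
    (h₃ : TypeThree Q₁ Q₂ τ s z) (hsu : s * u = u * s) (hv : v = s * u) {P : Subgroup G}
    (hT : Q₁ ⊔ Q₂ ≤ P) (hs : s ∈ P) (hu : u ∈ P) : 14 ≤ (Iset P s).ncard := by
  have hq := h₁.six.pair
  have hvP : v ∈ P := hv ▸ P.mul_mem hs hu
  have hcard1 := h₃.cardX
  have hcard2 : Nat.card ↥(Q₂ ⊓ Subgroup.centralizer {s}) = 4 := by
    rw [← hcard1, ← card_cj u (Q₁ ⊓ Subgroup.centralizer {s}), cj_inf, h₁.swap, cj_Cn, ← hsu]
    simp
  have hs1 := s_not_mem h₃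
  have hu1 := swap_not_mem hq h₁.swap
  have hv1 := swap_not_mem hq h₂.swap
  set A : Set G := ((Q₁ ⊓ Cn s : Subgroup G) : Set G) ∪ ((Q₂ ⊓ Cn s : Subgroup G) : Set G) with hA
  have hAT : ∀ a ∈ A, a ∈ Q₁ ⊔ Q₂ := by
    rintro a (ha | ha)
    · exact Subgroup.mem_sup_left ha.1
    · exact Subgroup.mem_sup_right ha.1
  have hAc : ∀ a ∈ A, a * s = s * a := by
    rintro a (ha | ha)
    · exact mem_Cn.1 ha.2
    · exact mem_Cn.1 ha.2
  have hA2 : ∀ a ∈ A, a * a = 1 := by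
    rintro a (ha | ha)
    · exact hq.ea₁.sq a ha.1
    · exact hq.ea₂.sq a ha.1
  have hAcard : 6 ≤ A.ncard := by
    have h1 := Set.ncard_union_add_ncard_inter ((Q₁ ⊓ Cn s : Subgroup G) : Set G) ((Q₂ ⊓ Cn s : Subgroup G) : Set G)
    have h2 : ((Q₁ ⊓ Cn s : Subgroup G) : Set G).ncard = 4 := by
      rw [← hcard1]
      rfl
    have h3 : ((Q₂ ⊓ Cn s : Subgroup G) : Set G).ncard = 4 := by
      rw [← hcard2]
      rfl
    have h4 : ((Q₁ ⊓ Cn s : Subgroup G) : Set G) ∩ ((Q₂ ⊓ Cn s : Subgroup G) : Set G) ⊆ {1, z} := by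
      rintro x ⟨hx1, hx2⟩
      exact h₃.X x ⟨hx1.1, hx2.1⟩ (mem_Cn.1 hx1.2).symm
    have h5 := Set.ncard_le_ncard h4 (Set.toFinite _)
    have h6 := ncard_pair_le' 1 z
    rw [← hA, h2, h3] at h1
    omega
  have hI : A ∪ (fun a => a * s) '' A ∪ {u, v} ⊆ Iset P s := by
    rintro a ((ha | ⟨a, ha, rfl⟩) | (rfl | rfl))
    · exact ⟨hT (hAT a ha), hAc a ha, hA2 a ha⟩
    · refine ⟨P.mul_mem (hT (hAT a ha)) hs, ?_, ?_⟩
      · calc a * s * s = s * a * s := by rw [hAc a ha]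
          _ = s * (a * s) := by group
      · calc a * s * (a * s) = a * (s * a) * s := by group
          _ = (a * a) * (s * s) := by rw [← hAc a ha]; group
          _ = 1 := by rw [hA2 a ha, h₃.s2, one_mul]
    · exact ⟨hu, hsu.symm, h₁.u2⟩
    · refine ⟨hvP, ?_, h₂.v2⟩
      rw [hv, mul_assoc, ← hsu]
  have hd1 : Disjoint A ((fun a => a * s) '' A) := by
    rw [Set.disjoint_left]
    rintro a ha ⟨b, hb, hab⟩
    apply hs1
    have : s = b⁻¹ * a := by rw [← hab]; group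
    rw [this]
    exact Subgroup.mul_mem _ (Subgroup.inv_mem _ (hAT b hb)) (hAT a ha)
  have hd2 : Disjoint (A ∪ (fun a => a * s) '' A) {u, v} := by
    rw [Set.disjoint_left]
    rintro a (ha | ⟨b, hb, hab⟩) (rfl | rfl)
    · exact hu1 (hAT a ha)
    · exact hv1 (hAT a ha)
    · apply hv1
      have : v = b := by
        rw [hv, hsu]
        simp only at hab
        rw [← hab, mul_assoc, h₃.s2, mul_one]
      rw [this]
      exact hAT b hb
    · apply hu1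
      have : u = b := by
        have h7 : b * s * s = s * u * s := by
          rw [← hv]
          simp only at hab
          rw [hab]
        rw [mul_assoc, h₃.s2, mul_one, mul_assoc, ← hsu, ← mul_assoc, h₃.s2, one_mul] at h7
        exact h7.symm
      rw [this]
      exact hAT b hb
  have huv : u ≠ v := by
    intro h
    apply hs1
    have : s = 1 := by
      rw [hv] at h
      exact mul_eq_right.1 h.symm
    rw [this]
    exact one_mem _
  have h8 := Set.ncard_le_ncard hI (Set.toFinite _)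
  rw [Set.ncard_union_eq hd2 (Set.toFinite _) (Set.toFinite _), Set.ncard_union_eq hd1 (Set.toFinite _) (Set.toFinite _),
    Set.ncard_pair huv, Set.ncard_image_of_injective _ (mul_left_injective s)] at h8
  omega

/-- upper bound for the centralizer of `v` -/
theorem ncard_v_le [Finite G] (h₁ : TypeOne Q₁ Q₂ τ u) (h₂ : TypeTwo Q₁ Q₂ τ v z)
    (h₃ : TypeThree Q₁ Q₂ τ s z) (hsu : s * u = u * s) (hv : v = s * u) {P : Subgroup G}
    (hP : ∀ x ∈ P, x ∈ Q₁ ⊔ Q₂ ∨ x * s ∈ Q₁ ⊔ Q₂ ∨ x * u ∈ Q₁ ⊔ Q₂ ∨ x * v ∈ Q₁ ⊔ Q₂) : (Iset P v).ncard ≤ 12 := by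
  have hq := h₁.six.pair
  -- an element of `X` outside `⟨z⟩`
  obtain ⟨x₀, hx₀, hx1, hxz⟩ : ∃ x ∈ Q₁ ⊓ Q₂, x ≠ 1 ∧ x ≠ z := by
    by_contra hcon
    push Not at hcon
    refine X_not_le hq z fun x hx => ?_
    by_cases h1 : x = 1
    · exact Or.inl h1
    · exact Or.inr (hcon x hx h1)
  obtain ⟨q, hq1, hqs⟩ := h₃.act
  have hs' : s⁻¹ = s := inv_eq_of_mul_eq_one_left h₃.s2
  have hv' : v⁻¹ = v := inv_eq_of_mul_eq_one_left h₂.v2
  have hsT : s ∈ Nm (Q₁ ⊔ Q₂) := nm_T_of_nm h₃.n₁ h₃.n₂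
  have hvT : v ∈ Nm (Q₁ ⊔ Q₂) := nm_T_of_swap h₂.swap h₂.swap'
  have hsv : s * v = v * s := by rw [hv, mul_assoc, ← hsu]
  -- the subgroup `L`
  let L : Subgroup G :=
    { carrier := {y | (y ∈ Q₁ ⊔ Q₂ ∧ v * y = y * v) ∧ s * y * s * y⁻¹ ∈ Q₁ ⊓ Q₂}
      one_mem' := by
        refine ⟨⟨one_mem _, by simp⟩, ?_⟩
        have : s * 1 * s * (1 : G)⁻¹ = 1 := by simpa using h₃.s2
        rw [this]
        exact one_mem _
      mul_mem' := by
        rintro a b ⟨⟨ha1, ha2⟩, ha3⟩ ⟨⟨hb1, hb2⟩, hb3⟩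
        refine ⟨⟨mul_mem ha1 hb1, by rw [← mul_assoc, ha2, mul_assoc, hb2, mul_assoc]⟩, ?_⟩
        have h4 := hq.comm_inf hb3 ha1
        have h5 : s * (a * b) * s * (a * b)⁻¹ = (s * a * s⁻¹) * (s * b * s * b⁻¹) * a⁻¹ := by
          rw [hs', mul_inv_rev]
          calc s * (a * b) * s * (b⁻¹ * a⁻¹) = s * a * (s * s) * b * s * b⁻¹ * a⁻¹ := by rw [h₃.s2]; group
            _ = (s * a * s) * (s * b * s * b⁻¹) * a⁻¹ := by group
        have h6 : s * a * s⁻¹ ∈ Q₁ ⊔ Q₂ := (le_Nm.1 (Subgroup.zpowers_le.2 hsT)) s (Subgroup.mem_zpowers s) a ha1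
        have h7 := hq.comm_inf hb3 h6
        rw [h5, ← h7, mul_assoc, hs']
        exact mul_mem hb3 ha3
      inv_mem' := by
        rintro a ⟨⟨ha1, ha2⟩, ha3⟩
        refine ⟨⟨inv_mem ha1, ?_⟩, ?_⟩
        · have := congrArg (fun t => a⁻¹ * t * a⁻¹) ha2
          simpa [mul_assoc] using this.symm
        · have h4 : s * a⁻¹ * s * a⁻¹⁻¹ = a⁻¹ * (s * a * s * a⁻¹)⁻¹ * a := by
            have : (s * a * s)⁻¹ = s * a⁻¹ * s := by
              rw [mul_inv_rev, mul_inv_rev, hs', mul_assoc]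
            rw [mul_inv_rev, this]
            group
          have h5 := hq.comm_inf (inv_mem ha3) ha1
          rw [h4, mul_assoc, h5, inv_mul_cancel_left]
          exact inv_mem ha3 }
  have hLle : L ≤ (Q₁ ⊔ Q₂) ⊓ Cn v := by
    intro y hy
    exact ⟨hy.1.1, mem_Cn.2 hy.1.2.symm⟩
  -- the element `y₀` outside `L`
  have hqX : q ∉ Q₂ := by
    intro hq2
    apply hqs
    have h1 : s * q * s⁻¹ ∈ Q₂ := le_Nm.1 (Subgroup.zpowers_le.2 h₃.n₂) s (Subgroup.mem_zpowers s) q hq2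
    rw [hs'] at h1
    exact mul_mem h1 (inv_mem hq2)
  have hqq : q * q = 1 := hq.ea₁.sq q hq1
  have hq' : q⁻¹ = q := inv_eq_of_mul_eq_one_left hqq
  have hvq : v * q * v ∈ Q₂ := by
    have : v * q * v⁻¹ ∈ cj v Q₁ := conj_mem_cj.2 hq1
    rwa [h₂.swap, hv'] at this
  have hpair := h₂.pair q hq1 hqX
  have hx₀v : v * x₀ * v * x₀ = z := by
    rcases h₂.Xcomm x₀ hx₀ with h | h
    · exfalso
      have hx2 : x₀ * x₀ = 1 := hq.ea₁.sq x₀ hx₀.1
      have h3 : v * x₀ = x₀ * v := by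
        have h4 : v * x₀ * v * x₀ * x₀ * v = x₀ * v := by rw [h, one_mul]
        rw [mul_assoc (v * x₀ * v), hx2, mul_one, mul_assoc (v * x₀), h₂.v2, mul_one] at h4
        exact h4
      rcases h₂.X x₀ hx₀ h3 with h5 | h5
      · exact hx1 h5
      · exact hxz h5
    · exact h
  have hy₀ : q * (v * q * v) * x₀ ∈ (Q₁ ⊔ Q₂) ⊓ Cn v := by
    refine Subgroup.mem_inf.2 ⟨mul_mem (mul_mem (Subgroup.mem_sup_left hq1) (Subgroup.mem_sup_right hvq))
      (Subgroup.mem_sup_left hx₀.1), mem_Cn.2 ?_⟩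
    have hz : z ∈ Q₁ ⊓ Q₂ := ⟨h₂.z₁, h₂.z₂⟩
    have hzz : z * z = 1 := hq.ea₁.sq z h₂.z₁
    have hzw := hq.comm_inf hz (Subgroup.mem_sup_right hvq : v * q * v ∈ Q₁ ⊔ Q₂)
    have hzx : z * x₀ = x₀ * z := hq.ea₁.comm z h₂.z₁ x₀ hx₀.1
    have hww : (v * q * v) * (v * q * v) = 1 := hq.ea₂.sq _ hvq
    have h2 : (v * q * v) * q = q * (v * q * v) * z := by
      rw [mul_assoc q, ← hzw]
      calc (v * q * v) * q = (q * q) * (v * q * v) * q * ((v * q * v) * (v * q * v)) := by rw [hqq, hww]; group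
        _ = q * (q * (v * q * v) * q * (v * q * v)) * (v * q * v) := by group
        _ = q * (z * (v * q * v)) := by rw [hpair]; group
    have h3 : v * x₀ = z * x₀ * v := by
      rw [← hx₀v]
      have hx2 : x₀ * x₀ = 1 := hq.ea₁.sq x₀ hx₀.1
      calc v * x₀ = v * x₀ * (v * (x₀ * x₀) * v) := by rw [hx2, mul_one, h₂.v2, mul_one]
        _ = v * x₀ * v * x₀ * x₀ * v := by group
    symm
    calc v * (q * (v * q * v) * x₀) = (v * q * v) * q * (v * x₀) := by group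
      _ = q * (v * q * v) * (z * z) * x₀ * v := by rw [h2, h3]; group
      _ = q * (v * q * v) * x₀ * v := by rw [hzz, mul_one]
  have hy₀L : q * (v * q * v) * x₀ ∉ L := by
    rintro ⟨_, h1⟩
    apply hqs
    have hn1 : ∀ a ∈ Q₁, s * a * s ∈ Q₁ := by
      intro a ha
      have h2 : s * a * s⁻¹ ∈ Q₁ := le_Nm.1 (Subgroup.zpowers_le.2 h₃.n₁) s (Subgroup.mem_zpowers s) a ha
      rwa [hs'] at h2
    have hn2 : ∀ a ∈ Q₂, s * a * s ∈ Q₂ := by
      intro a ha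
      have h2 : s * a * s⁻¹ ∈ Q₂ := le_Nm.1 (Subgroup.zpowers_le.2 h₃.n₂) s (Subgroup.mem_zpowers s) a ha
      rwa [hs'] at h2
    have h2 := hq.comm_inf h1 (Subgroup.mem_sup_left hq1 : q ∈ Q₁ ⊔ Q₂)
    have h3 : q⁻¹ * (s * q * s) * ((s * (v * q * v) * s) * (s * x₀ * s) * x₀⁻¹ * (v * q * v)⁻¹) ∈ Q₂ := by
      have h4 : q⁻¹ * (s * q * s) * ((s * (v * q * v) * s) * (s * x₀ * s) * x₀⁻¹ * (v * q * v)⁻¹) =
          q⁻¹ * ((s * (q * (v * q * v) * x₀) * s * (q * (v * q * v) * x₀)⁻¹) * q) := by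
        have h5 : q⁻¹ * (s * q * s) * ((s * (v * q * v) * s) * (s * x₀ * s) * x₀⁻¹ * (v * q * v)⁻¹) =
          q⁻¹ * (s * q * (s * s) * (v * q * v) * (s * s) * x₀ * s) * x₀⁻¹ * (v * q * v)⁻¹ := by group
        rw [h5, h₃.s2, mul_one, mul_one]
        group
      rw [h4, h2, inv_mul_cancel_left]
      exact h1.2
    have h6 : (s * (v * q * v) * s) * (s * x₀ * s) * x₀⁻¹ * (v * q * v)⁻¹ ∈ Q₂ :=
      mul_mem (mul_mem (mul_mem (hn2 _ hvq) (hn2 _ hx₀.2)) (inv_mem hx₀.2)) (inv_mem hvq)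
    have h7 := (Subgroup.mul_mem_cancel_right Q₂ h6).1 h3
    rwa [hq.ea₁.comm q⁻¹ (inv_mem hq1) _ (hn1 q hq1)] at h7
  have hcardL : Nat.card L ≤ 4 := by
    have h1 : Nat.card L ∣ 8 := by
      rw [← h₂.card]
      exact Subgroup.card_dvd_of_le hLle
    have h2 : Nat.card L ≠ 8 := by
      intro h3
      apply hy₀L
      have h4 : L = (Q₁ ⊔ Q₂) ⊓ Cn v := eq_of_le_of_card hLle (by rw [h₂.card, h3])
      rw [h4]
      exact hy₀
    have h3 : Nat.card L ≤ 8 := Nat.le_of_dvd (by norm_num) h1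
    interval_cases hc : Nat.card L <;> omega
  have hTv : ∀ t ∈ Q₁ ⊔ Q₂, t * v = v * t → t * t = 1 → t = 1 ∨ t = z := by
    intro t ht htv htt
    by_cases htX : t ∈ Q₁ ⊓ Q₂
    · exact h₂.X t htX htv.symm
    · exfalso
      apply h₂.zne
      rw [← h₂.sq t ht htv.symm htX, htt]
  have hLmem : ∀ y ∈ Q₁ ⊔ Q₂, y * v = v * y → (y * s) * (y * s) = 1 → y ∈ L := by
    intro y hy hyv hys
    refine ⟨⟨hy, hyv.symm⟩, ?_⟩
    have h1 : s * y * s * y⁻¹ = y⁻¹ * y⁻¹ := by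
      have h2 : s * y * s = y⁻¹ := by
        apply eq_inv_of_mul_eq_one_right
        rw [← hys]; group
      rw [h2]
    rw [h1]
    exact hq.sq_mem (inv_mem hy)
  have hI : Iset P v ⊆ {1, z} ∪ ({v, z * v} ∪ ((fun y => y * s) '' L ∪ (fun y => y * s * v) '' L)) := by
    rintro t ⟨htP, htv, htt⟩
    rcases hP t htP with ht | ht | ht | ht
    · left
      exact hTv t ht htv htt
    · right; right; left
      refine ⟨t * s, hLmem _ ht ?_ ?_, ?_⟩
      · rw [mul_assoc, hsv, ← mul_assoc, htv, mul_assoc]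
      · rw [mul_assoc t, h₃.s2, mul_one, htt]
      · simp only
        rw [mul_assoc, h₃.s2, mul_one]
    · right; right; right
      have huv : u = s * v := by rw [hv, ← mul_assoc, h₃.s2, one_mul]
      have h1 : t * u * s = t * v := by rw [hv, hsu, mul_assoc]
      refine ⟨t * u, hLmem _ ht ?_ ?_, ?_⟩
      · rw [huv]
        calc t * (s * v) * v = t * (s * v) * v := rfl
          _ = t * (v * s) * v := by rw [hsv]
          _ = (t * v) * (s * v) := by group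
          _ = v * (t * (s * v)) := by rw [htv]; group
      · rw [h1, mul_assoc, ← mul_assoc v, ← htv, mul_assoc t v v, h₂.v2, mul_one, htt]
      · simp only
        rw [h1, mul_assoc, h₂.v2, mul_one]
    · right; left
      have h1 : t * v * v = t := by rw [mul_assoc, h₂.v2, mul_one]
      rcases hTv (t * v) ht (by rw [htv]; rw [mul_assoc, htv]) (by
        rw [mul_assoc, ← mul_assoc v, ← htv, mul_assoc t v v, h₂.v2, mul_one, htt]) with h | h
      · left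
        rw [h, one_mul] at h1
        exact h1.symm
      · right
        rw [h] at h1
        exact h1.symm
  have h8 := Set.ncard_le_ncard hI (Set.toFinite _)
  have h9 := Set.ncard_union_le ({1, z} : Set G) ({v, z * v} ∪ ((fun y => y * s) '' L ∪ (fun y => y * s * v) '' L))
  have h10 := Set.ncard_union_le ({v, z * v} : Set G) ((fun y => y * s) '' L ∪ (fun y => y * s * v) '' L)
  have h11 := Set.ncard_union_le ((fun y => y * s) '' (L : Set G)) ((fun y => y * s * v) '' L)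
  have h12 : ((fun y => y * s) '' (L : Set G)).ncard ≤ 4 := (Set.ncard_image_le (Set.toFinite _)).trans hcardL
  have h13 : ((fun y => y * s * v) '' (L : Set G)).ncard ≤ 4 := (Set.ncard_image_le (Set.toFinite _)).trans hcardL
  have h14 := ncard_pair_le' 1 z
  have h15 := ncard_pair_le' v (z * v)
  omega

theorem relIndex_sup_inv [Finite G] {M : Subgroup G} {u : G} (hu2 : u * u = 1) (hn : u ∈ Nm M) (hu : u ∉ M) :
    M.relIndex (M ⊔ Subgroup.zpowers u) = 2 := by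
  rw [sup_comm, relIndex_sup_of_left (Subgroup.zpowers_le.2 hn)]
  have h1 := card_inf_mul_relIndex (Subgroup.zpowers u) M
  have h2 : orderOf u = 2 := by
    apply orderOf_eq_prime
    · rw [pow_two, hu2]
    · rintro rfl
      exact hu (one_mem _)
  rw [Nat.card_zpowers, h2] at h1
  have h3 : Nat.card ↥(M ⊓ Subgroup.zpowers u) ≠ 2 := by
    intro h4
    have h5 : M ⊓ Subgroup.zpowers u = Subgroup.zpowers u :=
      eq_of_le_of_card inf_le_right (by rw [Nat.card_zpowers, h2, h4])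
    apply hu
    have h6 : u ∈ M ⊓ Subgroup.zpowers u := by
      rw [h5]
      exact Subgroup.mem_zpowers u
    exact h6.1
  have h4 : Nat.card ↥(M ⊓ Subgroup.zpowers u) ∣ 2 := Dvd.intro _ h1
  rcases (Nat.dvd_prime Nat.prime_two).1 h4 with h5 | h5
  · rw [h5] at h1
    omega
  · exact absurd h5 h3

theorem e1920core [Finite G] (h₁ : TypeOne Q₁ Q₂ τ u) (h₂ : TypeTwo Q₁ Q₂ τ v z)
    (h₃ : TypeThree Q₁ Q₂ τ s z) (hsu : s * u = u * s) (hv : v = s * u) (P : Sylow 2 G)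
    (hP : (P : Subgroup G) = Q₁ ⊔ Q₂ ⊔ Subgroup.zpowers s ⊔ Subgroup.zpowers u)
    (hA : ∀ x : G, x * v * x⁻¹ ≠ z)
    (htr : ∀ x ∈ Q₁, ∀ y ∈ Q₁, x ≠ 1 → y ≠ 1 → ∃ a ∈ Nm Q₁, a * x * a⁻¹ = y) :
    ∃ H : Subgroup G, H.index = 2 := by
  by_contra hcon
  push Not at hcon
  have hq := h₁.six.pair
  have hs1 := s_not_mem h₃
  have hu1 := swap_not_mem hq h₁.swap
  have hv1 := swap_not_mem hq h₂.swap
  have hsT : s ∈ Nm (Q₁ ⊔ Q₂) := nm_T_of_nm h₃.n₁ h₃.n₂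
  have huT : u ∈ Nm (Q₁ ⊔ Q₂) := nm_T_of_swap h₁.swap h₁.swap'
  have hvT : v ∈ Nm (Q₁ ⊔ Q₂) := nm_T_of_swap h₂.swap h₂.swap'
  have hss : cj s (Subgroup.zpowers s) = Subgroup.zpowers s := cj_of_mem (Subgroup.mem_zpowers s)
  have hus : cj u (Subgroup.zpowers s) = Subgroup.zpowers s := by
    rw [cj_eq_map, MonoidHom.map_zpowers]
    congr 1
    change u * s * u⁻¹ = s
    rw [← hsu]
    group
  have huM : u ∈ Nm (Q₁ ⊔ Q₂ ⊔ Subgroup.zpowers s) := by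
    rw [mem_Nm, cj_sup, mem_Nm.1 huT, hus]
  -- decomposition
  have hdec : ∀ x ∈ (P : Subgroup G), x ∈ Q₁ ⊔ Q₂ ∨ x * s ∈ Q₁ ⊔ Q₂ ∨ x * u ∈ Q₁ ⊔ Q₂ ∨ x * v ∈ Q₁ ⊔ Q₂ := by
    intro x hx
    rw [hP, mem_sup_inv h₁.u2 huM, mem_sup_inv h₃.s2 hsT, mem_sup_inv h₃.s2 hsT] at hx
    rcases hx with (h | h) | (h | h)
    · exact Or.inl h
    · exact Or.inr (Or.inl h)
    · exact Or.inr (Or.inr (Or.inl h))
    · right; right; right
      rw [hv, hsu, ← mul_assoc]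
      exact h
  have hMP : Q₁ ⊔ Q₂ ⊔ Subgroup.zpowers s ≤ (P : Subgroup G) := by
    rw [hP]
    exact le_sup_left
  have hTP : Q₁ ⊔ Q₂ ≤ (P : Subgroup G) := le_sup_left.trans hMP
  have hsP : s ∈ (P : Subgroup G) := hMP (Subgroup.mem_sup_right (Subgroup.mem_zpowers s))
  have huP : u ∈ (P : Subgroup G) := by
    rw [hP]
    exact Subgroup.mem_sup_right (Subgroup.mem_zpowers u)
  have hvP : v ∈ (P : Subgroup G) := hv ▸ mul_mem hsP huP
  have hPT : (P : Subgroup G) ≤ Nm (Q₁ ⊔ Q₂) := by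
    rw [hP]
    exact sup_le (sup_le (self_le_Nm _) (Subgroup.zpowers_le.2 hsT)) (Subgroup.zpowers_le.2 huT)
  have huM' : u ∉ Q₁ ⊔ Q₂ ⊔ Subgroup.zpowers s := by
    rw [mem_sup_inv h₃.s2 hsT]
    rintro (h | h)
    · exact hu1 h
    · rw [← hsu, ← hv] at h
      exact hv1 h
  have hvne : v ≠ 1 := by
    rintro rfl
    exact hv1 (one_mem _)
  -- involutions of `T`
  have hinvT : ∀ t ∈ Q₁ ⊔ Q₂, t * t = 1 → t ≠ 1 → ∃ x, x * t * x⁻¹ = z := by
    intro t ht htt htne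
    rcases hq.inv ht htt with h | h
    · obtain ⟨a, -, ha⟩ := htr t h z h₂.z₁ htne h₂.zne
      exact ⟨a, ha⟩
    · have h3 : u * t * u⁻¹ ∈ Q₁ := by
        rw [← h₁.swap', conj_mem_cj]
        exact h
      obtain ⟨a, -, ha⟩ := htr _ h3 z h₂.z₁ (by
        intro h4
        apply htne
        have := congrArg (fun t => u⁻¹ * t * u) h4
        simpa [mul_assoc] using this) h₂.zne
      refine ⟨a * u, ?_⟩
      rw [← ha]
      group
  -- centralizer orders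
  have hcT : Nat.card ↥(Q₁ ⊔ Q₂) = 64 := card_T hq
  have hsv : s * v = v * s := by rw [hv, mul_assoc, ← hsu]
  have huv : u * v = v * u := by rw [hv, ← mul_assoc, ← hsu]
  have hPeq : (P : Subgroup G) = Q₁ ⊔ Q₂ ⊔ Subgroup.zpowers s ⊔ Subgroup.zpowers u := hP
  have hfull : ∀ a : G, s ∈ Cn a → u ∈ Cn a → ((P : Subgroup G) ⊓ Cn a) ⊔ (Q₁ ⊔ Q₂) = P := by
    intro a h1 h2
    apply le_antisymm
    · exact sup_le inf_le_left hTP
    · refine le_trans hPeq.le (sup_le (sup_le le_sup_right ?_) ?_)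
      · rw [Subgroup.zpowers_le]
        exact Subgroup.mem_sup_left ⟨hsP, h1⟩
      · rw [Subgroup.zpowers_le]
        exact Subgroup.mem_sup_left ⟨huP, h2⟩
  have hcs : Nat.card ↥((P : Subgroup G) ⊓ Cn s) * 64 = Nat.card P * 8 := by
    have h1 := card_cent hTP hPT s
    rw [hcT, h₃.card, hfull s (mem_Cn.2 rfl) (mem_Cn.2 hsu.symm)] at h1
    exact h1.symm
  have hcv : Nat.card ↥((P : Subgroup G) ⊓ Cn v) * 64 = Nat.card P * 8 := by
    have h1 := card_cent hTP hPT v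
    rw [hcT, h₂.card, hfull v (mem_Cn.2 hsv) (mem_Cn.2 huv)] at h1
    exact h1.symm
  have hcu : Nat.card ↥((P : Subgroup G) ⊓ Cn u) * 64 ≤ Nat.card P * 4 := by
    have h1 := card_cent hTP hPT u
    rw [hcT] at h1
    rw [← h1]
    apply Nat.mul_le_mul
    · exact card_le_of_le (sup_le inf_le_left hTP)
    · rw [← hq.inf]
      apply card_le_of_le
      intro t ht
      exact h₁.cent t ht.1 (mem_Cn.1 ht.2).symm
  -- Step B
  have hB : ∀ x : G, x * s * x⁻¹ ≠ v := by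
    intro x hx
    obtain ⟨y, -, hy⟩ := exists_conj_cent_eq P hvP hx (by
      intro g hg
      have h1 : (g * v * g⁻¹) * (g * v * g⁻¹) = 1 := by
        calc (g * v * g⁻¹) * (g * v * g⁻¹) = g * (v * v) * g⁻¹ := by group
          _ = 1 := by rw [h₂.v2]; group
      have h2 : g * v * g⁻¹ ≠ 1 := by
        intro h4
        apply hvne
        have := congrArg (fun t => g⁻¹ * t * g) h4
        simpa [mul_assoc] using this
      have h3 : ∀ w : G, (∀ t ∈ Q₁ ⊔ Q₂, (t * w) * (t * w) = 1 → ∃ y ∈ Q₁ ⊔ Q₂, y * w * y⁻¹ = t * w) → w * w = 1 →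
          (g * v * g⁻¹) * w ∈ Q₁ ⊔ Q₂ →
          Nat.card ↥((P : Subgroup G) ⊓ Cn (g * v * g⁻¹)) = Nat.card ↥((P : Subgroup G) ⊓ Cn w) := by
        intro w hw hww hgw
        have h4 : (g * v * g⁻¹) * w * w = g * v * g⁻¹ := by rw [mul_assoc, hww, mul_one]
        obtain ⟨y, hyT, hy⟩ := hw _ hgw (by rw [h4, h1])
        rw [h4] at hy
        rw [← hy]
        exact card_cent_conj (hTP hyT) w
      rcases hdec _ hg with h | h | h | h
      · exfalso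
        obtain ⟨w, hw⟩ := hinvT _ h h1 h2
        apply hA (w * g)
        rw [← hw]
        group
      · have := h3 s h₃.conj h₃.s2 h
        omega
      · have := h3 u h₁.conj h₁.u2 h
        omega
      · have := h3 v h₂.conj h₂.v2 h
        omega) (by omega)
    have h4 := ncard_Iset_le hy
    have h5 := le_ncard_s h₁ h₂ h₃ hsu hv hTP hsP huP
    have h6 := ncard_v_le h₁ h₂ h₃ hsu hv hdec
    omega
  -- transfer
  have hMidx : (Q₁ ⊔ Q₂ ⊔ Subgroup.zpowers s).relIndex (P : Subgroup G) = 2 := by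
    rw [hP]
    exact relIndex_sup_inv h₁.u2 huM huM'
  have hev : Even (Nat.card G) := by
    have h1 := Subgroup.card_subgroup_dvd_card (Q₁ ⊔ Q₂)
    rw [hcT] at h1
    exact even_iff_two_dvd.2 (Dvd.dvd.trans (by norm_num) h1)
  obtain ⟨g, hg⟩ := Cfsg.Agent.S3225.result hev hcon P _ hMP hMidx 1 le_rfl (by
    intro y _ hy2
    have h1 : orderOf y ≠ 1 := by
      intro h2
      rw [orderOf_eq_one_iff] at h2
      exact hy2 (h2 ▸ one_mem _)
    have h3 : 0 < orderOf y := orderOf_pos y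
    simp only [le_refl, tsub_eq_zero_of_le, pow_zero]
    omega) v hvP (by
    rw [pow_one]
    apply orderOf_eq_prime
    · rw [pow_two, h₂.v2]
    · exact hvne)
  have h1 : (g * v * g⁻¹) * (g * v * g⁻¹) = 1 := by
    calc (g * v * g⁻¹) * (g * v * g⁻¹) = g * (v * v) * g⁻¹ := by group
      _ = 1 := by rw [h₂.v2]; group
  rw [mem_sup_inv h₃.s2 hsT] at hg
  rcases hg with h | h
  · obtain ⟨w, hw⟩ := hinvT _ h h1 (by
      intro h4
      apply hvne
      have := congrArg (fun t => g⁻¹ * t * g) h4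
      simpa [mul_assoc] using this)
    apply hA (w * g)
    rw [← hw]
    group
  · have h4 : (g * v * g⁻¹) * s * s = g * v * g⁻¹ := by rw [mul_assoc, h₃.s2, mul_one]
    obtain ⟨y, -, hy⟩ := h₃.conj _ h (by rw [h4, h1])
    rw [h4] at hy
    apply hB (g⁻¹ * y)
    calc g⁻¹ * y * s * (g⁻¹ * y)⁻¹ = g⁻¹ * (y * s * y⁻¹) * g := by group
      _ = v := by rw [hy]; group

end Setup

end Cfsg.Agent.H595.Five
end

-- part: H595/Five/Orbit
section
/-!
# Orbit–stabilizer for conjugation by a subgroup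
-/

set_option autoImplicit false
open Pointwise
namespace Cfsg.Agent.H595.Five
open Cfsg.Agent.H399
variable {G : Type*} [Group G]

theorem card_orbit (A : Subgroup G) (x : G) :
    {y : G | ∃ a ∈ A, a * x * a⁻¹ = y}.ncard * Nat.card ↥(A ⊓ Cn x) = Nat.card A := by
  let _ : MulAction ↥A G := MulAction.compHom G ((MulAut.conj (G := G)).comp A.subtype)
  have hsm : ∀ (a : A) (y : G), a • y = (a : G) * y * (a : G)⁻¹ := fun a y => rfl
  have h1 : MulAction.orbit ↥A x = {y : G | ∃ a ∈ A, a * x * a⁻¹ = y} := by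
    ext y
    constructor
    · rintro ⟨a, rfl⟩
      exact ⟨a, a.2, rfl⟩
    · rintro ⟨a, ha, rfl⟩
      exact ⟨⟨a, ha⟩, rfl⟩
  have h2 : MulAction.stabilizer ↥A x = (Cn x).subgroupOf A := by
    ext a
    rw [MulAction.mem_stabilizer_iff, Subgroup.mem_subgroupOf, mem_Cn, hsm]
    constructor
    · intro h
      have := congrArg (fun t => t * (a : G)) h
      simpa [mul_assoc] using this
    · intro h
      rw [h]
      group
  have h3 := Nat.card_congr (MulAction.orbitEquivQuotientStabilizer ↥A x)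
  have h4 := Subgroup.card_eq_card_quotient_mul_card_subgroup (MulAction.stabilizer ↥A x)
  rw [h4, ← h3, h1, h2]
  congr 1
  exact (Nat.card_congr (Subgroup.subgroupOfEquivOfLe (inf_le_left : A ⊓ Cn x ≤ A)).toEquiv).symm.trans
    (by rw [Subgroup.inf_subgroupOf_left])

end Cfsg.Agent.H595.Five
end

-- part: H595/Five/Frame
section
/-!
# The frame of case 1920
-/

set_option autoImplicit false
open Pointwise
namespace Cfsg.Agent.H595.Five
open Cfsg.Agent.H399 Cfsg.Agent.H209.Five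
variable {G : Type*} [Group G] {Q₁ Q₂ : Subgroup G}

theorem card_cent_q [Finite G] (h : EA Q₁ 16)
    (htr : ∀ x ∈ Q₁, ∀ y ∈ Q₁, x ≠ 1 → y ≠ 1 → ∃ a ∈ Nm Q₁, a * x * a⁻¹ = y) {q : G} (hq : q ∈ Q₁) (hq1 : q ≠ 1) :
    15 * Nat.card ↥(Nm Q₁ ⊓ Cn q) = Nat.card ↥(Nm Q₁) := by
  rw [← card_orbit (Nm Q₁) q]
  congr 1
  have h1 : {y : G | ∃ a ∈ Nm Q₁, a * q * a⁻¹ = y} = (Q₁ : Set G) \ {1} := by
    ext y
    constructor
    · rintro ⟨a, ha, rfl⟩
      refine ⟨le_Nm.1 le_rfl a ha q hq, ?_⟩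
      intro h2
      apply hq1
      have := congrArg (fun t => a⁻¹ * t * a) (Set.mem_singleton_iff.1 h2)
      simpa [mul_assoc] using this
    · rintro ⟨hy, hy1⟩
      exact htr q hq y hy hq1 hy1
  rw [h1, Set.ncard_sdiff (by simp) (Set.toFinite _), Set.ncard_singleton]
  have h2 : (Q₁ : Set G).ncard = 16 := h.card
  rw [h2]

theorem cj_D {x : G} (hq : QPair Q₁ Q₂ 16 4) [Finite G] (hx : x ∈ Nm (Q₁ ⊔ Q₂)) :
    cj x (Nm Q₁ ⊓ Nm Q₂) = Nm Q₁ ⊓ Nm Q₂ := by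
  rw [cj_inf, cj_Nm, cj_Nm]
  rcases hq.perm (by norm_num) hx with ⟨h1, h2⟩ | ⟨h1, h2⟩
  · rw [h1, h2]
  · rw [h1, h2, inf_comm]

theorem D_le (Q₁ Q₂ : Subgroup G) : Nm Q₁ ⊓ Nm Q₂ ≤ Nm (Q₁ ⊔ Q₂) :=
  fun _ hx => nm_T_of_nm hx.1 hx.2

theorem T_le_D {n m : ℕ} (h : QPair Q₁ Q₂ n m) : Q₁ ⊔ Q₂ ≤ Nm Q₁ ⊓ Nm Q₂ := le_inf (T_le_nm₁ h) (T_le_nm₂ h)

/-- `|N(T)| = 2 |D|` -/
theorem card_NT [Finite G] (hq : QPair Q₁ Q₂ 16 4) {g : G} (hg₁ : cj g Q₁ = Q₂) (hg₂ : cj g Q₂ = Q₁) :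
    Nat.card ↥(Nm (Q₁ ⊔ Q₂)) = 2 * Nat.card ↥(Nm Q₁ ⊓ Nm Q₂) := by
  have h1 : (Nm Q₁ ⊓ Nm Q₂).relIndex (Nm (Q₁ ⊔ Q₂)) = 2 := by
    rw [Subgroup.relIndex_eq_two_iff]
    refine ⟨g, nm_T_of_swap hg₁ hg₂, ?_⟩
    intro b hb
    have hmem : ∀ x : G, x ∈ Nm Q₁ ⊓ Nm Q₂ ↔ cj x Q₁ = Q₁ ∧ cj x Q₂ = Q₂ := by
      intro x
      rw [Subgroup.mem_inf, mem_Nm, mem_Nm]
    rw [hmem, hmem]
    have hne := qne hq
    rcases hq.perm (by norm_num) hb with ⟨h1, h2⟩ | ⟨h1, h2⟩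
    · right
      refine ⟨⟨h1, h2⟩, ?_⟩
      rintro ⟨h3, -⟩
      rw [cj_mul, hg₁, h2] at h3
      exact hne h3.symm
    · left
      refine ⟨⟨by rw [cj_mul, hg₁, h2], by rw [cj_mul, hg₂, h1]⟩, ?_⟩
      rintro ⟨h3, -⟩
      rw [h1] at h3
      exact hne h3.symm
  have h2 := card_mul_relIndex (D_le Q₁ Q₂)
  rw [h1] at h2
  omega

theorem mul_mem_iff_two {H K : Subgroup G} (h : H.relIndex K = 2) {a b : G} (ha : a ∈ K) (hb : b ∈ K) :
    a * b ∈ H ↔ (a ∈ H ↔ b ∈ H) :=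
  Subgroup.mul_mem_iff_of_index_two (H := H.subgroupOf K) h (a := ⟨a, ha⟩) (b := ⟨b, hb⟩)

theorem le_nm_of_two {H K : Subgroup G} (hHK : H ≤ K) (h : H.relIndex K = 2) : K ≤ Nm H := by
  rw [← Subgroup.normal_subgroupOf_iff_le_normalizer hHK]
  exact Subgroup.normal_of_index_eq_two h

theorem mem_zpowers_three {τ : G} (hτ : orderOf τ = 3) {y : G} (hy : y ∈ Subgroup.zpowers τ) :
    y = 1 ∨ y = τ ∨ y = τ⁻¹ := by
  have h3 : τ ^ 3 = 1 := by rw [← hτ]; exact pow_orderOf_eq_one τ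
  obtain ⟨k, rfl⟩ := Subgroup.mem_zpowers_iff.1 hy
  have h1 : τ ^ k = τ ^ (k % 3) := by
    have := zpow_mod_orderOf τ k
    rw [hτ] at this
    exact_mod_cast this.symm
  have h2 := Int.emod_nonneg k (by norm_num : (3 : ℤ) ≠ 0)
  have h4 := Int.emod_lt_of_pos k (by norm_num : (0 : ℤ) < 3)
  rw [h1]
  have h5 : k % 3 = 0 ∨ k % 3 = 1 ∨ k % 3 = 2 := by omega
  rcases h5 with h | h | h
  · left
    rw [h, zpow_zero]
  · right; left
    rw [h, zpow_one]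
  · right; right
    rw [h, eq_inv_iff_mul_eq_one]
    rw [← h3, pow_succ τ 2, zpow_two, pow_two]

section Frat

/-- no element of order 3 of `N(Q₁)` centralises an element of `Q₁#` -/
theorem no_three [Finite G] (h : EA Q₁ 16)
    (htr : ∀ x ∈ Q₁, ∀ y ∈ Q₁, x ≠ 1 → y ≠ 1 → ∃ a ∈ Nm Q₁, a * x * a⁻¹ = y)
    (hN : ¬ 9 ∣ Nat.card ↥(Nm Q₁)) {τ t : G} (hτ : orderOf τ = 3) (hτN : τ ∈ Nm Q₁)
    (ht : t ∈ Q₁) (ht1 : t ≠ 1) (hc : τ * t = t * τ) : False := by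
  have h1 := card_cent_q h htr ht ht1
  have h2 : Subgroup.zpowers τ ≤ Nm Q₁ ⊓ Cn t := by
    rw [Subgroup.zpowers_le]
    exact ⟨hτN, mem_Cn.2 hc⟩
  have h3 := Subgroup.card_dvd_of_le h2
  rw [Nat.card_zpowers, hτ] at h3
  apply hN
  rw [← h1]
  obtain ⟨k, hk⟩ := h3
  rw [hk]
  exact ⟨5 * k, by ring⟩

theorem fpf_T [Finite G] (hq : QPair Q₁ Q₂ 16 4)
    (htr : ∀ x ∈ Q₁, ∀ y ∈ Q₁, x ≠ 1 → y ≠ 1 → ∃ a ∈ Nm Q₁, a * x * a⁻¹ = y)
    (hN : ¬ 9 ∣ Nat.card ↥(Nm Q₁)) {g : G} (hg₂ : cj g Q₂ = Q₁) {τ : G} (hτ : orderOf τ = 3) (hτD : τ ∈ Nm Q₁ ⊓ Nm Q₂) :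
    ∀ t ∈ Q₁ ⊔ Q₂, τ * t = t * τ → t = 1 := by
  have key : ∀ t ∈ Q₁ ⊔ Q₂, τ * t = t * τ → t * t = 1 → t = 1 := by
    intro t ht hc htt
    by_contra hne
    rcases hq.inv ht htt with h | h
    · exact no_three hq.ea₁ htr hN hτ hτD.1 h hne hc
    · refine no_three hq.ea₁ htr hN (τ := g * τ * g⁻¹) (t := g * t * g⁻¹) ?_ ?_ ?_ ?_ ?_
      · rw [← hτ]
        exact orderOf_injective (MulAut.conj g).toMonoidHom (MulAut.conj g).injective τ
      · rw [← hg₂, ← cj_Nm, conj_mem_cj]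
        exact hτD.2
      · rw [← hg₂, conj_mem_cj]
        exact h
      · intro h4
        apply hne
        have := congrArg (fun t => g⁻¹ * t * g) h4
        simpa [mul_assoc] using this
      · calc g * τ * g⁻¹ * (g * t * g⁻¹) = g * (τ * t) * g⁻¹ := by group
          _ = g * t * g⁻¹ * (g * τ * g⁻¹) := by rw [hc]; group
  intro t ht hc
  have h1 : t * t = 1 := by
    apply key (t * t) (mul_mem ht ht)
    · rw [← mul_assoc, hc, mul_assoc, hc, mul_assoc]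
    · have := hq.pow_four ht
      rw [← this]
      simp only [pow_succ, pow_zero, one_mul, mul_assoc]
  exact key t ht hc h1

theorem disj_three [Finite G] {T : Subgroup G} {τ : G} (hτ : orderOf τ = 3) (hT : Nat.card T = 64) :
    Subgroup.zpowers τ ⊓ T = ⊥ := by
  apply Disjoint.eq_bot
  apply Subgroup.disjoint_of_coprime_natCard
  rw [Nat.card_zpowers, hτ, hT]
  norm_num

/-- `K = ⟨τ⟩T` is normal in `N(T)` -/
theorem K_normal [Finite G] {T D N : Subgroup G} {τ : G} (hτ : orderOf τ = 3) (hT : Nat.card T = 64)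
    (hTD : T ≤ D) (hTN : N ≤ Nm T) (hDN : ∀ x ∈ N, cj x D = D) (hτD : τ ∈ D) (hDT : D ≤ Nm T) (hD : Nat.card D = 384) :
    Nat.card ↥(Subgroup.zpowers τ ⊔ T) = 192 ∧ (Subgroup.zpowers τ ⊔ T).relIndex D = 2 ∧
    ∀ x ∈ N, cj x (Subgroup.zpowers τ ⊔ T) = Subgroup.zpowers τ ⊔ T := by
  have hz : Subgroup.zpowers τ ≤ D := Subgroup.zpowers_le.2 hτD
  have h1 : Nat.card ↥(Subgroup.zpowers τ ⊔ T) = 192 := by
    have h2 := card_sup (hz.trans hDT)
    rw [disj_three hτ hT, Subgroup.card_bot, Nat.card_zpowers, hτ, hT] at h2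
    omega
  have hKD : Subgroup.zpowers τ ⊔ T ≤ D := sup_le hz hTD
  have h2 : (Subgroup.zpowers τ ⊔ T).relIndex D = 2 := by
    have h3 := card_mul_relIndex hKD
    rw [h1, hD] at h3
    omega
  refine ⟨h1, h2, ?_⟩
  intro x hx
  have h3 : cj x (Subgroup.zpowers τ ⊔ T) ≤ D := by
    rw [← hDN x hx, cj_le_cj]
    exact hKD
  have h4 := card_inf_mul_relIndex (cj x (Subgroup.zpowers τ ⊔ T)) (Subgroup.zpowers τ ⊔ T)
  rw [card_cj, h1] at h4
  have h5 : T ≤ (Subgroup.zpowers τ ⊔ T) ⊓ cj x (Subgroup.zpowers τ ⊔ T) := by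
    refine le_inf le_sup_right ?_
    rw [cj_sup, mem_Nm.1 (hTN hx)]
    exact le_sup_right
  have h6 := Subgroup.card_dvd_of_le h5
  rw [hT] at h6
  have h7 : (Subgroup.zpowers τ ⊔ T).relIndex (cj x (Subgroup.zpowers τ ⊔ T)) ≤ 2 := by
    rw [← h2]
    exact Subgroup.relIndex_le_of_le_right h3 (by omega)
  have h8 : (Subgroup.zpowers τ ⊔ T).relIndex (cj x (Subgroup.zpowers τ ⊔ T)) = 1 := by
    obtain ⟨k, hk⟩ := h6
    rw [hk] at h4
    generalize (Subgroup.zpowers τ ⊔ T).relIndex (cj x (Subgroup.zpowers τ ⊔ T)) = r at *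
    have : r = 0 ∨ r = 1 ∨ r = 2 := by omega
    rcases this with rfl | rfl | rfl <;> omega
  rw [Subgroup.relIndex_eq_one] at h8
  exact eq_of_le_of_card h8 (by rw [card_cj])

/-- Frattini -/
theorem frat [Finite G] {T N : Subgroup G} {τ : G} (hτ : orderOf τ = 3) (hτT : τ ∈ Nm T)
    (hK : Nat.card ↥(Subgroup.zpowers τ ⊔ T) = 192)
    (hKN : ∀ x ∈ N, cj x (Subgroup.zpowers τ ⊔ T) = Subgroup.zpowers τ ⊔ T) :
    ∀ x ∈ N, ∃ t ∈ T, t * x ∈ Nm (Subgroup.zpowers τ) := by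
  intro x hx
  have : Fact (Nat.Prime 3) := ⟨Nat.prime_three⟩
  have hp : IsPGroup 3 (Subgroup.zpowers τ) := IsPGroup.of_card (n := 1) (by rw [Nat.card_zpowers, hτ, pow_one])
  obtain ⟨c, hc, hc2⟩ := exists_cj_le_of_max (p := 3) (C := Subgroup.zpowers τ ⊔ T) (A := cj x (Subgroup.zpowers τ))
    (B := Subgroup.zpowers τ) (by rw [← hKN x hx, cj_le_cj]; exact le_sup_left) le_sup_left (isPGroup_cj x hp) hp (by
      intro S hS hSp _
      obtain ⟨k, hk⟩ := IsPGroup.iff_card.1 hSp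
      have h1 := Subgroup.card_dvd_of_le hS
      rw [hK, hk] at h1
      rw [hk, Nat.card_zpowers, hτ]
      by_contra hlt
      have h2 : 2 ≤ k := by
        by_contra h3
        have : k = 0 ∨ k = 1 := by omega
        rcases this with rfl | rfl <;> simp at hlt
      have h3 : 3 ^ 2 ∣ 192 := (pow_dvd_pow 3 h2).trans h1
      norm_num at h3)
  rw [mul_mem_sup_iff (Subgroup.zpowers_le.2 hτT)] at hc
  obtain ⟨a, ha, t, ht, rfl⟩ := hc
  refine ⟨t, ht, ?_⟩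
  rw [mem_Nm]
  have h1 : cj (a * t * x) (Subgroup.zpowers τ) = Subgroup.zpowers τ := by
    rw [cj_mul]
    exact eq_of_le_of_card hc2 (by rw [card_cj, card_cj])
  have h2 : t * x = a⁻¹ * (a * t * x) := by group
  rw [h2, cj_mul, h1, cj_of_mem (inv_mem ha)]

end Frat

theorem inv_pow_three {x : G} {τ : G} (hτ : orderOf τ = 3) (hx : x * x ∈ Subgroup.zpowers τ) :
    (x * x * x) * (x * x * x) = 1 := by
  have h1 : (x * x) ^ 3 = 1 := by
    obtain ⟨k, hk⟩ := Subgroup.mem_zpowers_iff.1 hx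
    have h3 : τ ^ 3 = 1 := by rw [← hτ]; exact pow_orderOf_eq_one τ
    rw [← hk, ← zpow_natCast, ← zpow_mul, mul_comm, zpow_mul, zpow_natCast, h3, one_zpow]
  rw [← h1]
  simp only [pow_succ, pow_zero, one_mul, mul_assoc]

theorem frame1920 [Finite G] (hq : QPair Q₁ Q₂ 16 4) (g : G) (hg₁ : cj g Q₁ = Q₂) (hg₂ : cj g Q₂ = Q₁)
    (hN : Nat.card ↥(Nm Q₁) = 1920) (hD : Nat.card ↥(Nm Q₁ ⊓ Nm Q₂) = 384)
    (hna : ∃ a ∈ Nm Q₁ ⊓ Nm Q₂, ∃ b ∈ Nm Q₁ ⊓ Nm Q₂, a * b * a⁻¹ * b⁻¹ ∉ Q₁ ⊔ Q₂)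
    (htr : ∀ x ∈ Q₁, ∀ y ∈ Q₁, x ≠ 1 → y ≠ 1 → ∃ a ∈ Nm Q₁, a * x * a⁻¹ = y) :
    ∃ τ s u z : G, TypeOne Q₁ Q₂ τ u ∧ TypeTwo Q₁ Q₂ τ (s * u) z ∧ TypeThree Q₁ Q₂ τ s z ∧ s * u = u * s ∧
      Nm Q₁ ⊓ Nm Q₂ = Q₁ ⊔ Q₂ ⊔ Subgroup.zpowers τ ⊔ Subgroup.zpowers s := by
  have hcT := card_T hq
  set T := Q₁ ⊔ Q₂ with hT
  set D := Nm Q₁ ⊓ Nm Q₂ with hDdef
  have hTD : T ≤ D := T_le_D hq
  have hDT : D ≤ Nm T := D_le Q₁ Q₂
  have hDN : ∀ x ∈ Nm T, cj x D = D := fun x hx => cj_D hq hx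
  have hcN : Nat.card ↥(Nm T) = 2 * Nat.card D := card_NT hq hg₁ hg₂
  have hgT : g ∈ Nm T := nm_T_of_swap hg₁ hg₂
  have hgD : g ∉ D := by
    intro h
    have h1 := mem_Nm.1 (Subgroup.mem_inf.1 h).1
    rw [hg₁] at h1
    exact qne hq h1.symm
  have hDidx : D.relIndex (Nm T) = 2 := by
    have h1 := card_mul_relIndex hDT
    rw [hcN, hD] at h1
    omega
  -- the element of order 3
  obtain ⟨τ, hτD, hτ⟩ : ∃ τ ∈ D, orderOf τ = 3 := by
    have : Fact (Nat.Prime 3) := ⟨Nat.prime_three⟩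
    obtain ⟨τ, hτ⟩ := exists_prime_orderOf_dvd_card' (G := D) 3 (by rw [hD]; norm_num)
    exact ⟨τ, τ.2, by rw [← hτ, Subgroup.orderOf_coe]⟩
  have hτ3 : τ ^ 3 = 1 := by rw [← hτ]; exact pow_orderOf_eq_one τ
  have hfpf : ∀ t ∈ T, τ * t = t * τ → t = 1 := fpf_T hq htr (by rw [hN]; norm_num) hg₂ hτ hτD
  have hsix : Six Q₁ Q₂ τ := ⟨hq, hτ3, hτD.1, hτD.2, hfpf⟩
  obtain ⟨hK, hKD, hKN⟩ := K_normal (N := Nm T) hτ hcT hTD le_rfl hDN hτD hDT hD
  have hfr := frat hτ (hDT hτD) hK hKN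
  set Z := Subgroup.zpowers τ with hZ
  set K := Z ⊔ T with hKdef
  have hKle : K ≤ D := sup_le (Subgroup.zpowers_le.2 hτD) hTD
  have hZT : Z ⊓ T = ⊥ := disj_three hτ hcT
  -- `C ∩ T = 1`
  have hCT : ∀ t ∈ T, t ∈ Nm Z → t = 1 := by
    intro t ht htZ
    apply hfpf t ht
    have h1 : t * τ * t⁻¹ ∈ Z := le_Nm.1 le_rfl t htZ τ (Subgroup.mem_zpowers τ)
    have h2 : t * τ * t⁻¹ * τ⁻¹ ∈ Z := mul_mem h1 (inv_mem (Subgroup.mem_zpowers τ))
    have h3 : t * τ * t⁻¹ * τ⁻¹ ∈ T := by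
      have h4 : τ * t⁻¹ * τ⁻¹ ∈ T := le_Nm.1 le_rfl τ (hDT hτD) _ (inv_mem ht)
      have h5 : t * τ * t⁻¹ * τ⁻¹ = t * (τ * t⁻¹ * τ⁻¹) := by group
      rw [h5]
      exact mul_mem ht h4
    have h6 : t * τ * t⁻¹ * τ⁻¹ ∈ Z ⊓ T := ⟨h2, h3⟩
    rw [hZT, Subgroup.mem_bot] at h6
    have h7 : t * τ = τ * t := by
      have := congrArg (fun y => y * τ * t) h6
      simpa [mul_assoc] using this
    exact h7.symm
  -- `K ∩ C = ⟨τ⟩`
  have hKC : ∀ x ∈ K, x ∈ Nm Z → x ∈ Z := by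
    intro x hx hxZ
    rw [hKdef, mul_mem_sup_iff (Subgroup.zpowers_le.2 (hDT hτD))] at hx
    obtain ⟨a, ha, t, ht, rfl⟩ := hx
    have h1 : t ∈ Nm Z := by
      have := mul_mem (inv_mem (self_le_Nm Z ha)) hxZ
      rwa [inv_mul_cancel_left] at this
    rw [hCT t ht h1, mul_one]
    exact ha
  -- `s`
  obtain ⟨s, hsD, hsK, hsZ, hs2⟩ : ∃ s ∈ D, s ∉ K ∧ s ∈ Nm Z ∧ s * s = 1 := by
    obtain ⟨x, hxD, hxK⟩ : ∃ x ∈ D, x ∉ K := by
      by_contra hcon
      push Not at hcon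
      have h1 : D ≤ K := hcon
      have h2 := card_le_of_le h1
      omega
    obtain ⟨t, ht, htx⟩ := hfr x (hDT hxD)
    have hyD : t * x ∈ D := mul_mem (hTD ht) hxD
    have hyK : t * x ∉ K := by
      intro h
      apply hxK
      have := mul_mem (inv_mem (le_sup_right (a := Z) ht : t ∈ K)) h
      rwa [inv_mul_cancel_left] at this
    generalize t * x = y at htx hyD hyK
    have hyy : y * y ∈ K := (mul_mem_iff_two hKD hyD hyD).2 Iff.rfl
    have hyyZ : y * y ∈ Z := hKC _ hyy (mul_mem htx htx)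
    refine ⟨y * y * y, mul_mem (mul_mem hyD hyD) hyD, ?_, mul_mem (mul_mem htx htx) htx, inv_pow_three hτ hyyZ⟩
    intro h
    exact hyK ((mul_mem_iff_two hKD (hKle hyy) hyD).1 h |>.1 hyy)
  have hs' : s⁻¹ = s := inv_eq_of_mul_eq_one_left hs2
  -- decomposition of `D`
  have hDdec : ∀ d ∈ D, ∃ a ∈ Z ⊔ Subgroup.zpowers s, ∃ t ∈ T, a * t = d := by
    intro d hd
    by_cases hdK : d ∈ K
    · rw [hKdef, mul_mem_sup_iff (Subgroup.zpowers_le.2 (hDT hτD))] at hdK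
      obtain ⟨a, ha, t, ht, rfl⟩ := hdK
      exact ⟨a, Subgroup.mem_sup_left ha, t, ht, rfl⟩
    · have h1 : s * d ∈ K := (mul_mem_iff_two hKD hsD hd).2 (iff_of_false hsK hdK)
      rw [hKdef, mul_mem_sup_iff (Subgroup.zpowers_le.2 (hDT hτD))] at h1
      obtain ⟨a, ha, t, ht, hat⟩ := h1
      refine ⟨s * a, mul_mem (Subgroup.mem_sup_right (Subgroup.mem_zpowers s)) (Subgroup.mem_sup_left ha), t, ht, ?_⟩
      rw [mul_assoc, hat, ← mul_assoc, hs2, one_mul]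
  have hsT : s ∈ Nm T := hDT hsD
  have hτT : τ ∈ Nm T := hDT hτD
  -- `s` inverts `τ`
  have hsτ : s * τ ≠ τ * s := by
    intro hcomm
    obtain ⟨a, haD, b, hbD, hab⟩ := hna
    apply hab
    obtain ⟨a₁, ha₁, t₁, ht₁, rfl⟩ := hDdec a haD
    obtain ⟨a₂, ha₂, t₂, ht₂, rfl⟩ := hDdec b hbD
    have hAN : Z ⊔ Subgroup.zpowers s ≤ Nm T := sup_le (Subgroup.zpowers_le.2 hτT) (Subgroup.zpowers_le.2 hsT)
    have hZs : Subgroup.zpowers s ≤ Nm Z := by
      rw [Subgroup.zpowers_le]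
      exact hsZ
    have hcomm2 : ∀ x ∈ Z ⊔ Subgroup.zpowers s, ∀ y ∈ Z ⊔ Subgroup.zpowers s, x * y = y * x := by
      have h1 : Z ⊔ Subgroup.zpowers s ≤ Subgroup.centralizer ((Z ⊔ Subgroup.zpowers s : Subgroup G) : Set G) := by
        have hgen : ∀ w : G, w * τ = τ * w → w * s = s * w →
            w ∈ Subgroup.centralizer ((Z ⊔ Subgroup.zpowers s : Subgroup G) : Set G) := by
          intro w hw1 hw2
          have h2 : Z ⊔ Subgroup.zpowers s ≤ Cn w := by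
            refine sup_le (Subgroup.zpowers_le.2 (mem_Cn.2 hw1.symm)) (Subgroup.zpowers_le.2 (mem_Cn.2 hw2.symm))
          rw [Subgroup.mem_centralizer_iff]
          intro y hy
          exact mem_Cn.1 (h2 hy)
        refine sup_le (Subgroup.zpowers_le.2 ?_) (Subgroup.zpowers_le.2 ?_)
        · exact hgen τ rfl hcomm.symm
        · exact hgen s hcomm rfl
      intro x hx y hy
      exact (Subgroup.mem_centralizer_iff.1 (h1 hx) y hy).symm
    have hnT : ∀ x ∈ Z ⊔ Subgroup.zpowers s, ∀ t ∈ T, x * t * x⁻¹ ∈ T := le_Nm.1 hAN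
    have h12 := hcomm2 a₁ ha₁ a₂ ha₂
    have h3 : a₂⁻¹ * (t₁) * a₂⁻¹⁻¹ ∈ T := hnT _ (inv_mem ha₂) _ ht₁
    have h4 : a₁⁻¹ * (t₂⁻¹) * a₁⁻¹⁻¹ ∈ T := hnT _ (inv_mem ha₁) _ (inv_mem ht₂)
    have h5 := hnT _ (mul_mem ha₁ ha₂) _ (mul_mem (mul_mem h3 (mul_mem ht₂ (inv_mem ht₁))) h4)
    have h6 : a₁ * t₁ * (a₂ * t₂) * (a₁ * t₁)⁻¹ * (a₂ * t₂)⁻¹ =
        a₁ * a₂ * (a₂⁻¹ * t₁ * a₂⁻¹⁻¹ * (t₂ * t₁⁻¹) * (a₁⁻¹ * t₂⁻¹ * a₁⁻¹⁻¹)) * (a₂ * a₁)⁻¹ := by
      group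
    rw [h6, ← h12]
    exact h5
  have hZconj : ∀ x ∈ Nm Z, x * τ * x⁻¹ = τ ∨ x * τ * x⁻¹ = τ⁻¹ := by
    intro x hx
    rcases mem_zpowers_three hτ (le_Nm.1 le_rfl x hx τ (Subgroup.mem_zpowers τ)) with h | h | h
    · exfalso
      have h1 : τ = 1 := by
        have := congrArg (fun t => x⁻¹ * t * x) h
        simpa [mul_assoc] using this
      rw [h1, orderOf_one] at hτ
      omega
    · exact Or.inl h
    · exact Or.inr h
  have hsinv : s * τ * s = τ⁻¹ := by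
    rcases hZconj s hsZ with h | h
    · exfalso
      apply hsτ
      have := congrArg (fun t => t * s) h
      simpa [mul_assoc] using this
    · rwa [hs'] at h
  -- elements of `C ∩ D` commuting with `τ`
  have hCDτ : ∀ y ∈ D, y ∈ Nm Z → y * τ = τ * y → y ∈ Z := by
    intro y hyD hyZ hyτ
    by_cases hyK : y ∈ K
    · exact hKC y hyK hyZ
    · exfalso
      have h1 : y * s ∈ K := (mul_mem_iff_two hKD hyD hsD).2 (iff_of_false hyK hsK)
      have h2 := hKC _ h1 (mul_mem hyZ hsZ)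
      have h3 : Z ≤ Cn τ := Subgroup.zpowers_le.2 (mem_Cn.2 rfl)
      have h4 : y ∈ Cn τ := mem_Cn.2 hyτ
      have h5 : s ∈ Cn τ := (Subgroup.mul_mem_cancel_left _ h4).1 (h3 h2)
      exact hsτ (mem_Cn.1 h5)
  -- `u`
  obtain ⟨u, huT, huD, huZ, hu2, huτ⟩ : ∃ u ∈ Nm T, u ∉ D ∧ u ∈ Nm Z ∧ u * u = 1 ∧ u * τ = τ * u := by
    obtain ⟨t, ht, htx⟩ := hfr g hgT
    have hyT : t * g ∈ Nm T := mul_mem (self_le_Nm T ht) hgT
    have hyD : t * g ∉ D := by
      intro h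
      apply hgD
      have := mul_mem (inv_mem (hTD ht)) h
      rwa [inv_mul_cancel_left] at this
    generalize t * g = y at htx hyT hyD
    obtain ⟨x, hxT, hxD, hxZ, hxτ⟩ : ∃ x ∈ Nm T, x ∉ D ∧ x ∈ Nm Z ∧ x * τ = τ * x := by
      rcases hZconj y htx with h | h
      · refine ⟨y, hyT, hyD, htx, ?_⟩
        have := congrArg (fun t => t * y) h
        simpa [mul_assoc] using this
      · refine ⟨s * y, mul_mem hsT hyT, ?_, mul_mem hsZ htx, ?_⟩
        · intro h1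
          exact hyD ((Subgroup.mul_mem_cancel_left D hsD).1 h1)
        · have h1 : y * τ = τ⁻¹ * y := by
            have := congrArg (fun t => t * y) h
            simpa [mul_assoc] using this
          have h2 : s * τ⁻¹ * s = τ := by
            rw [← hsinv]
            calc s * (s * τ * s) * s = (s * s) * τ * (s * s) := by group
              _ = τ := by rw [hs2]; group
          calc s * y * τ = s * (y * τ) := by group
            _ = (s * τ⁻¹ * s) * (s * y) := by rw [h1]; calc s * (τ⁻¹ * y) = s * τ⁻¹ * 1 * y := by group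
                  _ = s * τ⁻¹ * s * (s * y) := by rw [← hs2]; group
            _ = τ * (s * y) := by rw [h2]
    have hxx : x * x ∈ D := (mul_mem_iff_two hDidx hxT hxT).2 Iff.rfl
    have hxxτ : x * x * τ = τ * (x * x) := by rw [mul_assoc, hxτ, ← mul_assoc, hxτ, mul_assoc]
    have hxxZ : x * x ∈ Z := hCDτ _ hxx (mul_mem hxZ hxZ) hxxτ
    refine ⟨x * x * x, mul_mem (mul_mem hxT hxT) hxT, ?_, mul_mem (mul_mem hxZ hxZ) hxZ, inv_pow_three hτ hxxZ, ?_⟩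
    · intro h1
      exact hxD ((Subgroup.mul_mem_cancel_left D hxx).1 h1)
    · rw [mul_assoc, hxτ, ← mul_assoc, hxxτ, mul_assoc]
  have hu' : u⁻¹ = u := inv_eq_of_mul_eq_one_left hu2
  have hsu : s * u = u * s := by
    have h1 : s * u * s * u ∈ D := by
      have h2 : u * s * u⁻¹ ∈ D := by
        rw [← hDN u huT, conj_mem_cj]
        exact hsD
      have h3 : s * u * s * u = s * (u * s * u⁻¹) := by rw [hu']; group
      rw [h3]
      exact mul_mem hsD h2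
    have h2 : s * u * s * u ∈ Nm Z := mul_mem (mul_mem (mul_mem hsZ huZ) hsZ) huZ
    have h3 : s * τ = τ⁻¹ * s := by
      rw [← hsinv, mul_assoc (s * τ), hs2, mul_one]
    have h3' : s * τ⁻¹ = τ * s := by
      have := congrArg (fun t => τ * t * τ⁻¹) h3
      simp only [mul_assoc, mul_inv_cancel_left, mul_inv_cancel, mul_one] at this
      exact this.symm
    have huτ' : u * τ⁻¹ = τ⁻¹ * u := by
      have := congrArg (fun t => τ⁻¹ * t * τ⁻¹) huτ
      simp only [mul_assoc, mul_inv_cancel, mul_one, inv_mul_cancel_left] at this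
      exact this.symm
    have h4 : s * u * s * u * τ = τ * (s * u * s * u) := by
      calc s * u * s * u * τ = s * u * s * (u * τ) := by group
        _ = s * u * (s * τ) * u := by rw [huτ]; group
        _ = s * (u * τ⁻¹) * s * u := by rw [h3]; group
        _ = (s * τ⁻¹) * u * s * u := by rw [huτ']; group
        _ = τ * (s * u * s * u) := by rw [h3']; group
    have h5 := hCDτ _ h1 h2 h4
    have h6 : Z ≤ Cn u := Subgroup.zpowers_le.2 (mem_Cn.2 huτ.symm)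
    have h7 := mem_Cn.1 (h6 h5)
    have h8 : (s * u * s * u) * (s * u * s * u) = 1 := by
      have h9 : s * u * s = s * u * s * u * u := by rw [mul_assoc (s * u * s), hu2, mul_one]
      calc (s * u * s * u) * (s * u * s * u) = (s * u * s * u) * ((s * u * s * u) * u) * u := by
            rw [mul_assoc (s * u * s * u) ((s * u * s * u) * u) u, mul_assoc (s * u * s * u) u u, hu2, mul_one]
        _ = (s * u * s * u) * (u * (s * u * s * u)) * u := by rw [h7]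
        _ = (s * u * s) * (u * u) * s * u * s * (u * u) := by group
        _ = s * u * (s * s) * u * s := by rw [hu2]; group
        _ = s * (u * u) * s := by rw [hs2]; group
        _ = 1 := by rw [hu2, mul_one, hs2]
    have h9 : s * u * s * u = 1 := by
      generalize s * u * s * u = w at h5 h8
      rcases mem_zpowers_three hτ h5 with h | h | h
      · exact h
      · exfalso
        rw [h] at h8
        have : orderOf τ ∣ 2 := orderOf_dvd_of_pow_eq_one (by rw [pow_two, h8])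
        rw [hτ] at this
        omega
      · exfalso
        rw [h] at h8
        have : orderOf τ⁻¹ ∣ 2 := orderOf_dvd_of_pow_eq_one (by rw [pow_two, h8])
        rw [orderOf_inv, hτ] at this
        omega
    have h10 : s * u = (s * u)⁻¹ := eq_inv_of_mul_eq_one_left (by rw [← h9]; group)
    rw [h10, mul_inv_rev, hu', hs']
  have huswap : cj u Q₁ = Q₂ := by
    rcases hq.perm (by norm_num) huT with ⟨h1, h2⟩ | ⟨h1, -⟩
    · exact absurd (Subgroup.mem_inf.2 ⟨mem_Nm.2 h1, mem_Nm.2 h2⟩) huD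
    · exact h1
  have hone : TypeOne Q₁ Q₂ τ u := ⟨hsix, hu2, huswap, huτ⟩
  -- `z`
  obtain ⟨z, hzX, hz1, hsz⟩ : ∃ z ∈ Q₁ ⊓ Q₂, z ≠ 1 ∧ s * z = z * s := by
    obtain ⟨x, hxX, hx1⟩ : ∃ x ∈ Q₁ ⊓ Q₂, x ≠ 1 := by
      by_contra hcon
      push Not at hcon
      exact X_not_le hq 1 fun x hx => Or.inl (hcon x hx)
    have hsx : s * x * s ∈ Q₁ ⊓ Q₂ := by
      have h1 : s * x * s⁻¹ ∈ Q₁ := le_Nm.1 le_rfl s hsD.1 x hxX.1
      have h2 : s * x * s⁻¹ ∈ Q₂ := le_Nm.1 le_rfl s hsD.2 x hxX.2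
      rw [hs'] at h1 h2
      exact ⟨h1, h2⟩
    have hcomm : x * (s * x * s) = (s * x * s) * x := hq.ea₁.comm x hxX.1 _ hsx.1
    by_cases hy : x * (s * x * s) = 1
    · refine ⟨x, hxX, hx1, ?_⟩
      have h1 : s * x * s = x := by
        have h2 : x * x = 1 := hq.ea₁.sq x hxX.1
        calc s * x * s = (x * x) * (s * x * s) := by rw [h2, one_mul]
          _ = x := by rw [mul_assoc, hy, mul_one]
      calc s * x = s * x * (s * s) := by rw [hs2, mul_one]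
        _ = (s * x * s) * s := by group
        _ = x * s := by rw [h1]
    · refine ⟨x * (s * x * s), mul_mem hxX hsx, hy, ?_⟩
      calc s * (x * (s * x * s)) = (s * x * s) * (s * s) * x * s := by
            rw [hs2]
            calc s * (x * (s * x * s)) = s * x * s * 1 * x * s := by group
              _ = _ := rfl
        _ = ((s * x * s) * x) * s := by rw [hs2]; group
        _ = x * (s * x * s) * s := by rw [hcomm]
  have hthree : TypeThree Q₁ Q₂ τ s z := ⟨hsix, hs2, hsD.1, hsD.2, hsinv, hzX.1, hzX.2, hz1, hsz⟩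
  have huz : u * z = z * u := hone.X z hzX
  have hsus : s * u * (s * u) = 1 := by
    calc s * u * (s * u) = s * (u * s) * u := by group
      _ = (s * s) * (u * u) := by rw [← hsu]; group
      _ = 1 := by rw [hs2, hu2, one_mul]
  have htwo : TypeTwo Q₁ Q₂ τ (s * u) z := by
    refine ⟨hsix, hsus, ?_, ?_, hzX.1, hzX.2, hz1, ?_⟩
    · rw [cj_mul, huswap]
      exact mem_Nm.1 hsD.2
    · calc s * u * τ * (s * u) = s * (u * τ) * (s * u) := by group
        _ = s * τ * (u * s) * u := by rw [huτ]; group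
        _ = (s * τ * s) * (u * u) := by rw [← hsu]; group
        _ = τ⁻¹ := by rw [hsinv, hu2, mul_one]
    · calc s * u * z = s * (u * z) := by group
        _ = (s * z) * u := by rw [huz]; group
        _ = z * (s * u) := by rw [hsz]; group
  refine ⟨τ, s, u, z, hone, htwo, hthree, hsu, ?_⟩
  apply le_antisymm
  · intro d hd
    obtain ⟨a, ha, t, ht, rfl⟩ := hDdec d hd
    refine mul_mem ?_ ?_
    · have h1 : Z ⊔ Subgroup.zpowers s ≤ T ⊔ Z ⊔ Subgroup.zpowers s :=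
        sup_le_sup_right le_sup_right _
      exact h1 ha
    · exact Subgroup.mem_sup_left (Subgroup.mem_sup_left ht)
  · exact sup_le (sup_le hTD (Subgroup.zpowers_le.2 hτD)) (Subgroup.zpowers_le.2 hsD)

end Cfsg.Agent.H595.Five
end
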